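import Cfsg.Agent.Lib.SpecThirteenSol.Exponent

/-!
An element of order thirteen without fixed points on an abelian normal subgroup: the powers of elements
normalising it act independently.
-/

set_option autoImplicit false
set_option linter.unusedSectionVars false

namespace CfsgLib.SpecThirteenSol

universe u

variable {G : Type u} [Group G]

/-- The hypotheses. -/
structure FreeMod (K : Subgroup G) (u : G) : Prop where
  normal : K.Normal
  comm : ∀ a ∈ K, ∀ b ∈ K, a * b = b * a
  u13 : u ^ 13 = 1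
  fpf : ∀ k ∈ K, u * k * u⁻¹ = k → k = 1
  thirteen : ∀ k ∈ K, k ^ 13 = 1 → k = 1

theorem four_inj : ∀ r : ZMod 13, r ^ 2 ≠ 1 → r ^ 4 = 1 → ∀ α β : Fin 4, r ^ α.val = r ^ β.val → α = β := by
  decide

theorem six_inj : ∀ p q : Fin 2 × Fin 3,
    (12 : ZMod 13) ^ p.1.val * 9 ^ p.2.val = 12 ^ q.1.val * 9 ^ q.2.val → p = q := by decide

variable {K : Subgroup G} {u : G}

/-- Independence. -/
theorem FreeMod.indep [K.Normal] (h : FreeMod K u) {ι : Type} [Fintype ι] (t : ι → ZMod 13) (ht : Function.Injective t)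
    (a : ι → K) (hprod : ∀ m : ZMod 13,
      letI : CommGroup K :=
        { (inferInstance : Group K) with mul_comm := fun a b => Subtype.ext (h.comm a a.2 b b.2) }
      ∏ g, MulAut.conjNormal (pw u (t g * m)) (a g) = 1) (g₀ : ι) : a g₀ = 1 := by
  classical
  haveI : Fact (Nat.Prime 13) := ⟨by norm_num⟩
  letI : CommGroup K :=
    { (inferInstance : Group K) with mul_comm := fun a b => Subtype.ext (h.comm a a.2 b b.2) }
  let σ : G →* MulAut K := MulAut.conjNormal
  have hzero : ∀ c : ZMod 13, c ≠ 0 → ∀ y : K, ∏ m : ZMod 13, σ (pw u (c * m)) y = 1 := by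
    intro c hc y
    rw [show ∏ n : ZMod 13, σ (pw u (c * n)) y = ∏ n : ZMod 13, σ (pw u n) y from
      Fintype.prod_equiv (Equiv.mulLeft₀ c hc) _ _ fun n => rfl]
    have hu : σ u (∏ n : ZMod 13, σ (pw u n) y) = ∏ n : ZMod 13, σ (pw u n) y := by
      rw [map_prod]
      refine Fintype.prod_equiv (Equiv.addLeft 1) _ _ fun n => ?_
      rw [Equiv.coe_addLeft, ← MulAut.mul_apply, ← map_mul, pw_add h.u13, pw_one]
    exact Subtype.ext (h.fpf _ (Subtype.coe_prop _) (congrArg Subtype.val hu))
  have h0 : ∏ m : ZMod 13, σ (pw u (-(t g₀) * m)) (∏ g, σ (pw u (t g * m)) (a g)) = 1 := by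
    refine Finset.prod_eq_one fun m _ => ?_
    rw [show ∏ g, σ (pw u (t g * m)) (a g) = 1 from hprod m, map_one]
  simp only [map_prod, ← MulAut.mul_apply, ← map_mul, ← pw_add h.u13, ← add_mul] at h0
  rw [Finset.prod_comm, Finset.prod_eq_single g₀] at h0
  · simp only [neg_add_cancel, zero_mul, pw_zero, map_one, MulAut.one_apply, Finset.prod_const,
      Finset.card_univ, ZMod.card] at h0
    exact Subtype.ext (h.thirteen _ (a g₀).2 (congrArg Subtype.val h0))
  · intro g _ hg
    exact hzero _ (fun e => hg (ht (neg_add_eq_zero.1 e).symm)) _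
  · simp

theorem pw_conj {d : G} {r : ZMod 13} (hu : u ^ 13 = 1) (hd : d * u * d⁻¹ = pw u r) (k : ℕ) (m : ZMod 13) :
    d ^ k * pw u m = pw u (r ^ k * m) * d ^ k := by
  have h1 : ∀ m : ZMod 13, d * pw u m = pw u (r * m) * d := fun m => by
    have e : d * pw u m * d⁻¹ = pw u (r * m) := by
      rw [pw, ← conj_pow, hd, pw, ← pow_mul, ← pw_natCast hu, Nat.cast_mul, ZMod.natCast_zmod_val,
        ZMod.natCast_zmod_val]
    rw [← e, inv_mul_cancel_right]
  induction k generalizing m with
  | zero => simp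
  | succ k ih => rw [pow_succ' d, mul_assoc, ih, ← mul_assoc, h1, mul_assoc, pow_succ' r, mul_assoc]

/-- An element of order four acting faithfully on the thirteen-group fixes a nontrivial element. -/
theorem FreeMod.exists_fixed_four (h : FreeMod K u) (hK : K ≠ ⊥) {d : G} (hd4 : d ^ 4 = 1) {r : ZMod 13}
    (hd : d * u * d⁻¹ = pw u r) (hr : r ^ 2 ≠ 1 ∧ r ^ 4 = 1) :
    ∃ k ∈ K, k ≠ 1 ∧ d * k * d⁻¹ = k := by
  classical
  haveI := h.normal
  haveI : Fact (Nat.Prime 13) := ⟨by norm_num⟩
  letI : CommGroup K :=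
    { (inferInstance : Group K) with mul_comm := fun a b => Subtype.ext (h.comm a a.2 b b.2) }
  let σ : G →* MulAut K := MulAut.conjNormal
  by_contra hno
  push Not at hno
  have hN : ∀ k : K, ∏ α : Fin 4, σ (d ^ α.val) k = 1 := by
    intro k
    by_contra hne
    refine hno _ (Subtype.coe_prop _) (fun e => hne (Subtype.ext e)) ?_
    have hf : σ d (∏ α : Fin 4, σ (d ^ α.val) k) = ∏ α : Fin 4, σ (d ^ α.val) k := by
      rw [Fin.prod_univ_four]
      rw [map_mul (σ d), map_mul (σ d), map_mul (σ d)]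
      simp only [← MulAut.mul_apply, ← map_mul σ, ← pow_succ', Fin.val_zero,
        Fin.val_one, Fin.val_two, show ((3 : Fin 4) : ℕ) = 3 from rfl, zero_add, show (1 + 1) = 2 from rfl,
        show (2 + 1) = 3 from rfl, show (3 + 1) = 4 from rfl, hd4, pow_zero, pow_one, map_one, MulAut.one_apply]
      simp only [pow_two]
      ac_rfl
    exact congrArg Subtype.val hf
  refine hK ((Subgroup.eq_bot_iff_forall _).2 fun k hk => ?_)
  have ht : Function.Injective (fun α : Fin 4 => r ^ α.val) := by
    exact fun α β e => four_inj r hr.1 hr.2 α β e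
  have hz := h.indep (fun α : Fin 4 => r ^ α.val) ht (fun α => σ (d ^ α.val) ⟨k, hk⟩) (fun m => by
    have e := hN (σ (pw u m) ⟨k, hk⟩)
    simp only [← MulAut.mul_apply, ← map_mul, pw_conj h.u13 hd] at e
    rw [← e]
    exact Finset.prod_congr rfl fun α _ => by rw [map_mul, MulAut.mul_apply]) 0
  simpa using congrArg Subtype.val hz

/-- Commuting elements of orders three and two: some element is fixed by the first and moved by the second. -/
theorem FreeMod.exists_fixed_six (h : FreeMod K u) (hK : K ≠ ⊥) {x d : G} (hx3 : x ^ 3 = 1)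
    (hx : x * u * x⁻¹ = pw u 9) (hd : d * u * d⁻¹ = pw u 12) :
    ∃ k ∈ K, x * k * x⁻¹ = k ∧ d * k * d⁻¹ ≠ k := by
  classical
  haveI := h.normal
  haveI : Fact (Nat.Prime 13) := ⟨by norm_num⟩
  letI : CommGroup K :=
    { (inferInstance : Group K) with mul_comm := fun a b => Subtype.ext (h.comm a a.2 b b.2) }
  let σ : G →* MulAut K := MulAut.conjNormal
  by_contra hno
  push Not at hno
  have hT : ∀ k : K, σ d (∏ α : Fin 3, σ (x ^ α.val) k) = ∏ α : Fin 3, σ (x ^ α.val) k := by
    intro k
    refine Subtype.ext (hno _ (Subtype.coe_prop _) ?_)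
    have hf : σ x (∏ α : Fin 3, σ (x ^ α.val) k) = ∏ α : Fin 3, σ (x ^ α.val) k := by
      rw [Fin.prod_univ_three]
      rw [map_mul (σ x), map_mul (σ x)]
      simp only [← MulAut.mul_apply, ← map_mul σ, ← pow_succ', Fin.val_zero,
        Fin.val_one, Fin.val_two, zero_add, show (1 + 1) = 2 from rfl, show (2 + 1) = 3 from rfl, hx3,
        pow_zero, pow_one, map_one, MulAut.one_apply]
      simp only [pow_two]
      ac_rfl
    exact congrArg Subtype.val hf
  refine hK ((Subgroup.eq_bot_iff_forall _).2 fun k hk => ?_)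
  let t : Fin 2 × Fin 3 → ZMod 13 := fun p => 12 ^ p.1.val * 9 ^ p.2.val
  have ht : Function.Injective t := by
    exact fun p q e => six_inj p q e
  let a : Fin 2 × Fin 3 → K := fun p =>
    if p.1 = 0 then (σ (x ^ p.2.val) ⟨k, hk⟩)⁻¹ else σ (d * x ^ p.2.val) ⟨k, hk⟩
  have hz := h.indep t ht a (fun m => by
    have e := hT (σ (pw u m) ⟨k, hk⟩)
    simp only [← MulAut.mul_apply, ← map_mul, map_prod, pw_conj h.u13 hx] at e
    rw [Fintype.prod_prod_type, Fin.prod_univ_two]
    simp only [t, a, if_true, Fin.val_zero, Fin.val_one, pow_zero, pow_one, one_mul, map_inv, Finset.prod_inv_distrib,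
      Fin.isValue, one_ne_zero, if_false]
    rw [inv_mul_eq_one]
    refine (Eq.trans (Finset.prod_congr rfl fun α _ => ?_) e.symm).trans (Finset.prod_congr rfl fun α _ => ?_)
    · rw [← MulAut.mul_apply, ← map_mul]
    · have e2 : ∀ y : ZMod 13, d * pw u y = pw u (12 * y) * d := fun y => by
        simpa using pw_conj h.u13 hd 1 y
      rw [← MulAut.mul_apply, ← map_mul, ← mul_assoc d, e2, mul_assoc 12, mul_assoc]) (0, 0)
  simpa [a] using congrArg Subtype.val hz

end CfsgLib.SpecThirteenSol
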