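import Cfsg.Agent.Lib.SpecThirteen.Basic
import Cfsg.Agent.Lib.SpecThirteenSol.Free
import Cfsg.Agent.Lib.Basic
import Cfsg.Agent.Lib.Elementary
import Cfsg.Agent.Lib.Frobenius.Complement
import Cfsg.Agent.Lib.Frobenius.FixedPointFree
import Cfsg.Agent.Lib.Solvable.ProductNilpotent
import Cfsg.Prelude.Def_Solvable

/-!
A soluble group with the element orders of `PSL₃(3)` has a nontrivial normal thirteen-subgroup.
-/

set_option autoImplicit false
set_option linter.unusedSectionVars false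

namespace CfsgLib.SpecThirteenSol

open CfsgLib.SpecThirteen Cfsg

universe u

variable {G : Type u} [Group G] [Finite G]

/-- A nontrivial soluble group has a nontrivial normal subgroup of prime-power order. -/
theorem exists_normal_pgroup (hs : Group.IsSolvable G) [Nontrivial G] :
    ∃ (p : ℕ) (N : Subgroup G), p.Prime ∧ N.Normal ∧ N ≠ ⊥ ∧ IsPGroup p N := by
  obtain ⟨M, hMn, -, hM0, hmin⟩ := CfsgLib.exists_minimal_normal (G := G) (N := ⊤) (by simp)
  haveI := hMn
  obtain ⟨-, p, hp, hexp⟩ := CfsgLib.minimal_normal_elementary hM0 inferInstance hmin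
  exact ⟨p, M, hp, hMn, hM0, fun m => ⟨1, Subtype.ext (by rw [pow_one]; exact hexp m m.2)⟩⟩

theorem center_map_facts {Q : Subgroup G} [Q.Normal] {p : ℕ} [Fact p.Prime] (hQ : IsPGroup p Q) (hne : Q ≠ ⊥) :
    ((Subgroup.center Q).map Q.subtype).Normal ∧ (Subgroup.center Q).map Q.subtype ≠ ⊥ ∧
      ∀ a ∈ (Subgroup.center Q).map Q.subtype, ∀ b ∈ (Subgroup.center Q).map Q.subtype, a * b = b * a := by
  refine ⟨inferInstance, fun e => ?_, ?_⟩
  · haveI : Nontrivial Q := (Subgroup.nontrivial_iff_ne_bot Q).2 hne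
    rw [Subgroup.map_eq_bot_iff_of_injective _ Q.subtype_injective] at e
    exact (Subgroup.nontrivial_iff_ne_bot _).1 hQ.center_nontrivial e
  · rintro _ ⟨a, ha, rfl⟩ _ ⟨b, -, rfl⟩
    rw [← map_mul, ← map_mul, Subgroup.mem_center_iff.1 ha b]

/-- An element of order thirteen acts without fixed points on elements of order prime to thirteen. -/
theorem fixes_nothing (h : Thirteen G) {u : G} (hu : orderOf u = 13) {r : G}
    (hr : ¬ 13 ∣ orderOf r) (hfix : u * r * u⁻¹ = r) : r = 1 := by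
  have h13 := h.commute_thirteen hu (mul_inv_eq_iff_eq_mul.1 hfix)
  rcases (Nat.dvd_prime (by norm_num)).1 (orderOf_dvd_of_pow_eq_one h13) with e | e
  · exact orderOf_eq_one_iff.1 e
  · exact absurd (e ▸ dvd_rfl) hr

theorem freeMod (h : Thirteen G) {u : G} (hu : orderOf u = 13) {p : ℕ} [Fact p.Prime] (hp13 : p ≠ 13)
    {Q : Subgroup G} [Q.Normal] (hQ : IsPGroup p Q) (hne : Q ≠ ⊥) :
    FreeMod ((Subgroup.center Q).map Q.subtype) u ∧ (Subgroup.center Q).map Q.subtype ≠ ⊥ := by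
  obtain ⟨hn, h0, hc⟩ := center_map_facts hQ hne
  have hnd : ∀ k ∈ Q, ¬ 13 ∣ orderOf k := fun k hk hd => by
    obtain ⟨i, hi⟩ := IsPGroup.iff_orderOf.1 hQ ⟨k, hk⟩
    rw [Subgroup.orderOf_mk] at hi
    rw [hi] at hd
    exact hp13 ((Nat.prime_dvd_prime_iff_eq (by norm_num) Fact.out).1 (Nat.Prime.dvd_of_dvd_pow (by norm_num) hd)).symm
  refine ⟨⟨hn, hc, by rw [← hu, pow_orderOf_eq_one], ?_, ?_⟩, h0⟩
  · rintro k ⟨q, -, rfl⟩ hfix
    exact fixes_nothing h hu (hnd _ q.2) hfix
  · rintro k ⟨q, -, rfl⟩ hk13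
    rcases (Nat.dvd_prime (by norm_num)).1 (orderOf_dvd_of_pow_eq_one hk13) with e | e
    · exact orderOf_eq_one_iff.1 e
    · exact absurd (e ▸ dvd_rfl) (hnd _ q.2)

/-- The element of order thirteen acts by an exponent on the elements normalising it. -/
theorem exponent_pow {u : G} (hu : u ^ 13 = 1) {n : G} {t : ZMod 13} (hn : n * u * n⁻¹ = pw u t) (k : ℕ) :
    n ^ k * u * (n ^ k)⁻¹ = pw u (t ^ k) := by
  have := pw_conj hu hn k 1
  rw [pw_one, mul_one] at this
  rw [this, mul_inv_cancel_right]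

theorem pw_inj {u : G} (hu : orderOf u = 13) {a b : ZMod 13} (e : pw u a = pw u b) : a = b :=
  ZMod.val_injective 13 (pow_injOn_Iio_orderOf (by rw [Set.mem_Iio, hu]; exact ZMod.val_lt a)
    (by rw [Set.mem_Iio, hu]; exact ZMod.val_lt b) e)

theorem one_ne_ten_pow : ¬ (1 : ZMod 13) = 10 ^ 13 := by decide

theorem order_ten : orderOf (10 : ZMod 13) = 6 := (orderOf_eq_iff (by norm_num)).2 ⟨by decide, by decide⟩

theorem cube_roots : ∀ t : ZMod 13, t ^ 3 = 1 → t ≠ 1 → t = 3 ∨ t = 9 := by decide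

theorem square_roots : ∀ t : ZMod 13, t ^ 2 = 1 → t ≠ 1 → t = 12 := by decide

set_option maxHeartbeats 1000000 in
/-- The thirteen-core is not trivial. -/
theorem pCore_ne_bot (hsolv : Group.IsSolvable G) (h : Thirteen G) (h8 : ∃ g : G, orderOf g = 8)
    (h3 : ∃ g : G, orderOf g = 3) (h13 : ∃ g : G, orderOf g = 13) : pCore 13 G ≠ ⊥ := by
  classical
  intro hcore
  haveI : Fact (Nat.Prime 13) := ⟨by norm_num⟩
  haveI : Fact (Nat.Prime 3) := ⟨by norm_num⟩
  haveI : Fact (Nat.Prime 2) := ⟨by norm_num⟩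
  obtain ⟨u₁, hu₁⟩ := h13
  set R := pPrimeCore 13 G with hR
  have hRcop : (Nat.card R).Coprime 13 := CfsgLib.card_pPrimeCore_coprime 13
  have hR13 : ∀ r ∈ R, ¬ 13 ∣ orderOf r := fun r hr hd =>
    (Nat.Prime.coprime_iff_not_dvd (by norm_num)).1 hRcop.symm
      (hd.trans (Subgroup.orderOf_dvd_natCard R hr))
  haveI : Nontrivial G := ⟨⟨u₁, 1, fun e => by rw [e, orderOf_one] at hu₁; omega⟩⟩
  have hRne : R ≠ ⊥ := by
    obtain ⟨p, N, hp, hN, hN0, hNp⟩ := exists_normal_pgroup hsolv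
    haveI := hN
    haveI := Fact.mk hp
    intro e
    by_cases hp13 : p = 13
    · subst hp13; exact hN0 (le_bot_iff.1 ((CfsgLib.le_pCore hNp).trans hcore.le))
    · obtain ⟨k, hk⟩ := IsPGroup.iff_card.1 hNp
      exact hN0 (le_bot_iff.1 ((CfsgLib.le_pPrimeCore (p := 13) (by
        rw [hk]; exact Nat.Coprime.pow_left k ((Nat.coprime_primes hp (by norm_num)).2 hp13))).trans e.le))
  -- the nilpotent normal subgroup
  have hfpf : ∀ v : G, orderOf v = 13 → ∀ r ∈ R, v * r * v⁻¹ = r → r = 1 := fun v hv r hr hfix =>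
    fixes_nothing h hv (hR13 r hr) hfix
  haveI hnil : Group.IsNilpotent R := by
    let φ : MulAut R := MulAut.conjNormal u₁
    refine CfsgLib.Frob.isNilpotent_of_fpf_prime φ (fun r hr => Subtype.ext (hfpf u₁ hu₁ r r.2 (congrArg Subtype.val hr)))
      (p := 13) (by norm_num) (orderOf_eq_prime ?_ fun e => ?_)
    · rw [← map_pow, orderOf_dvd_iff_pow_eq_one.1 hu₁.dvd, map_one]
    · obtain ⟨r, hr, hr1⟩ := (Subgroup.ne_bot_iff_exists_ne_one).1 hRne |> fun ⟨r, hr⟩ => (⟨(r : G), r.2,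
        fun e => hr (Subtype.ext e)⟩ : ∃ r : G, r ∈ R ∧ r ≠ 1)
      exact hr1 (hfpf u₁ hu₁ r hr (congrArg (fun α : MulAut R => ((α ⟨r, hr⟩ : R) : G)) e))
  have hZ : ∃ K : Subgroup G, K.Normal ∧ K ≠ ⊥ ∧ K ≤ R ∧ ∀ a ∈ K, ∀ b ∈ K, a * b = b * a := by
    haveI : Nontrivial R := (Subgroup.nontrivial_iff_ne_bot R).2 hRne
    refine ⟨(Subgroup.center R).map R.subtype, inferInstance, fun e => ?_, Subgroup.map_subtype_le _, ?_⟩
    · rw [Subgroup.map_eq_bot_iff_of_injective _ R.subtype_injective] at e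
      exact CfsgLib.inf_center_ne_bot_of_nilpotent (G := R) (N := ⊤) top_ne_bot (by rw [e, inf_bot_eq])
    · rintro _ ⟨a, ha, rfl⟩ _ ⟨b, -, rfl⟩
      rw [← map_mul, ← map_mul, Subgroup.mem_center_iff.1 ha b]
  obtain ⟨K, hKn, hK0, hKR, hKab⟩ := hZ
  -- the subgroups of thirteen-power order have order at most thirteen
  have hsmall : ∀ P : Subgroup G, IsPGroup 13 P → Nat.card P ≤ 13 := by
    intro P hP
    by_contra hlt
    haveI : IsMulCommutative K := ⟨⟨fun a b => Subtype.ext (hKab a a.2 b b.2)⟩⟩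
    haveI : Nontrivial P := Finite.one_lt_card_iff_nontrivial.1 (by omega)
    have hord : ∀ a : G, a ∈ P → a ≠ 1 → orderOf a = 13 := fun a ha h1 => by
      obtain ⟨i, hi⟩ := hP ⟨a, ha⟩
      exact orderOf_eq_prime (h.pow_eq_one (Or.inr rfl) (congrArg Subtype.val hi)) h1
    obtain ⟨z, hz, hz1⟩ : ∃ z ∈ Subgroup.center P, z ≠ 1 := by
      obtain ⟨⟨z, hz⟩, hne⟩ := (Subgroup.ne_bot_iff_exists_ne_one).1
        ((Subgroup.nontrivial_iff_ne_bot _).1 hP.center_nontrivial)
      exact ⟨z, hz, fun e => hne (Subtype.ext e)⟩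
    have hzG : (z : G) ≠ 1 := fun e => hz1 (Subtype.ext e)
    obtain ⟨b, hb⟩ : ∃ b : P, (b : G) ∉ Subgroup.zpowers (z : G) := by
      by_contra hall
      push Not at hall
      have := Subgroup.card_le_of_le (show P ≤ Subgroup.zpowers (z : G) from fun y hy => hall ⟨y, hy⟩)
      rw [Nat.card_zpowers, hord _ z.2 hzG] at this
      omega
    have hb1 : (b : G) ≠ 1 := fun e => hb (e ▸ Subgroup.one_mem _)
    refine hb (CfsgLib.Frob.no_elementary_fpf (V := K) hK0 (p := 13) (by norm_num) (A := P)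
      (fun g _ => by rw [Subgroup.normalizer_eq_top]; trivial) (fun a ha ha1 => ?_) z.2 b.2
      (hord _ z.2 hzG) (hord _ b.2 hb1) (congrArg Subtype.val (Subgroup.mem_center_iff.1 hz b)).symm)
    refine (Subgroup.eq_bot_iff_forall _).2 fun k hk => ?_
    refine hfpf a (hord a ha ha1) k (hKR hk.1) (mul_inv_eq_iff_eq_mul.2 ?_)
    exact (Subgroup.mem_centralizer_singleton_iff.1 hk.2).symm
  -- the normal subgroup above of index thirteen in it
  obtain ⟨u, hu, huR⟩ : ∃ u : G, orderOf u = 13 ∧ ∀ g : G, ∃ t : ZMod 13, ∃ r ∈ R, g * u * g⁻¹ = r * pw u t := by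
    haveI : Nontrivial (G ⧸ R) := by
      refine ⟨⟨u₁, 1, fun e => ?_⟩⟩
      exact hR13 u₁ ((QuotientGroup.eq_one_iff u₁).1 e) (hu₁ ▸ dvd_rfl)
    haveI : Group.IsSolvable (G ⧸ R) := Group.isSolvable_of_surjective (QuotientGroup.mk'_surjective R)
    obtain ⟨p, N, hp, hN, hN0, hNp⟩ := exists_normal_pgroup (G := G ⧸ R) inferInstance
    haveI := hN
    haveI := Fact.mk hp
    obtain ⟨k, hk⟩ := IsPGroup.iff_card.1 hNp
    set L := N.comap (QuotientGroup.mk' R) with hL
    have hcardL : Nat.card L = Nat.card R * p ^ k := by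
      have hRL : R ≤ L := fun r hr => by
        rw [hL, Subgroup.mem_comap, QuotientGroup.mk'_apply, (QuotientGroup.eq_one_iff r).2 hr]
        exact N.one_mem
      have h1 := (R.subgroupOf L).card_mul_index
      rw [Nat.card_congr (Subgroup.subgroupOfEquivOfLe hRL).toEquiv] at h1
      have h2 : (R.subgroupOf L).index = Nat.card N := by
        have := Subgroup.relIndex_ker (QuotientGroup.mk' R) (K := L)
        rw [QuotientGroup.ker_mk'] at this
        rw [← Subgroup.relIndex, this, hL,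
          Subgroup.map_comap_eq_self_of_surjective (QuotientGroup.mk'_surjective R)]
      rw [← h1, h2, hk]
    have hp13 : p = 13 := by
      by_contra hne
      haveI : L.Normal := hN.comap _
      have hLR : L ≤ R := CfsgLib.le_pPrimeCore (p := 13) (by
        rw [hcardL]
        exact Nat.Coprime.mul_left hRcop (Nat.Coprime.pow_left k ((Nat.coprime_primes hp (by norm_num)).2 hne)))
      refine hN0 ((Subgroup.eq_bot_iff_forall _).2 fun q hq => ?_)
      obtain ⟨g, rfl⟩ := QuotientGroup.mk'_surjective R q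
      exact (QuotientGroup.eq_one_iff g).2 (hLR hq)
    subst hp13
    obtain ⟨P⟩ : Nonempty (Sylow 13 L) := inferInstance
    have hPcard : Nat.card (P : Subgroup L) = 13 ^ k := by
      rw [P.card_eq_multiplicity, hcardL]
      congr 1
      rw [Nat.factorization_mul Nat.card_pos.ne' (pow_pos (by norm_num) k).ne', Finsupp.add_apply,
        Nat.factorization_eq_zero_of_not_dvd ((Nat.Prime.coprime_iff_not_dvd (by norm_num)).1 hRcop.symm),
        zero_add, Nat.Prime.factorization_pow (by norm_num), Finsupp.single_eq_same]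
    have hk1 : k = 1 := by
      have hle := hsmall ((P : Subgroup L).map L.subtype) (P.isPGroup'.map _)
      rw [← Nat.card_congr ((P : Subgroup L).equivMapOfInjective L.subtype L.subtype_injective).toEquiv, hPcard] at hle
      rcases k with _ | _ | k
      · exact absurd (Subgroup.eq_bot_of_card_le N (by rw [hk]; norm_num)) hN0
      · rfl
      · have : 13 ^ 2 ≤ 13 ^ (k + 1 + 1) := Nat.pow_le_pow_right (by norm_num) (by omega)
        omega
    subst hk1
    obtain ⟨v, hv⟩ := exists_prime_orderOf_dvd_card' (G := L) 13 (hcardL ▸ dvd_mul_of_dvd_right (by norm_num) _)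
    rw [← Subgroup.orderOf_coe] at hv
    have hvN : ((v : G) : G ⧸ R) ∈ N := v.2
    have hvgen : Subgroup.zpowers ((v : G) : G ⧸ R) = N := by
      refine Subgroup.eq_of_le_of_card_ge (Subgroup.zpowers_le.2 hvN) ?_
      rw [Nat.card_zpowers, hk, pow_one]
      refine (orderOf_eq_prime ?_ fun e => ?_).ge
      · rw [← QuotientGroup.mk_pow, orderOf_dvd_iff_pow_eq_one.1 hv.dvd, QuotientGroup.mk_one]
      · exact hR13 v ((QuotientGroup.eq_one_iff _).1 e) (hv ▸ dvd_rfl)
    refine ⟨v, hv, fun g => ?_⟩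
    have hmem : ((g * v * g⁻¹ : G) : G ⧸ R) ∈ N := by
      rw [QuotientGroup.mk_mul, QuotientGroup.mk_mul, QuotientGroup.mk_inv]
      exact hN.conj_mem _ hvN _
    rw [← hvgen, mem_zpowers_iff_mem_range_orderOf, Finset.mem_image] at hmem
    obtain ⟨j, -, hj⟩ := hmem
    refine ⟨(j : ZMod 13), g * v * g⁻¹ * (pw (v : G) (j : ZMod 13))⁻¹, ?_, by group⟩
    rw [pw_natCast (by rw [← hv, pow_orderOf_eq_one]), ← QuotientGroup.eq_one_iff, QuotientGroup.mk_mul,
      QuotientGroup.mk_inv, QuotientGroup.mk_pow, hj, mul_inv_cancel]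
  have hu13 : u ^ 13 = 1 := by rw [← hu, pow_orderOf_eq_one]
  have hu1 : u ≠ 1 := fun e => by rw [e, orderOf_one] at hu; omega
  have horu : ∀ t : ZMod 13, t ≠ 0 → orderOf (pw u t) = 13 := fun t ht =>
    orderOf_eq_prime (by rw [pw, ← pow_mul, mul_comm, pow_mul, hu13, one_pow])
      (fun e => ht (pw_inj hu (e.trans (pw_zero u).symm)))
  have hRn : R.Normal := inferInstance
  -- Frattini
  have hfrat : ∀ g : G, ∃ r ∈ R, ∃ t : ZMod 13, (r⁻¹ * g) * u * (r⁻¹ * g)⁻¹ = pw u t := by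
    intro g
    obtain ⟨t, r₀, hr₀, he⟩ := huR g
    have ht : t ≠ 0 := fun e => by
      rw [e, pw_zero, mul_one] at he
      refine hR13 r₀ hr₀ ?_
      rw [← he, ← MulAut.conj_apply, MulEquiv.orderOf_eq, hu]
    have hmem : ∀ y : R, (y : G) * pw u t * (y : G)⁻¹ * (pw u t)⁻¹ ∈ R := fun y => by
      rw [show (y : G) * pw u t * (y : G)⁻¹ * (pw u t)⁻¹ = (y : G) * (pw u t * (y : G)⁻¹ * (pw u t)⁻¹) by group]
      exact R.mul_mem y.2 (hRn.conj_mem _ (R.inv_mem y.2) _)
    have hinj : Function.Injective (fun y : R => (⟨_, hmem y⟩ : R)) := by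
      intro y z e
      have e1 := congrArg Subtype.val e
      simp only [mul_left_inj] at e1
      refine Subtype.ext (inv_mul_eq_one.1 (hfpf _ (horu t ht) ((y : G)⁻¹ * z) (R.mul_mem (R.inv_mem y.2) z.2) ?_))
      calc pw u t * ((y : G)⁻¹ * z) * (pw u t)⁻¹
          = (y : G)⁻¹ * ((y : G) * pw u t * (y : G)⁻¹) * z * (pw u t)⁻¹ := by group
        _ = (y : G)⁻¹ * ((z : G) * pw u t * (z : G)⁻¹) * z * (pw u t)⁻¹ := by rw [e1]
        _ = _ := by group
    obtain ⟨y, hy⟩ := Finite.surjective_of_injective hinj ⟨r₀, hr₀⟩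
    have hy' : (y : G) * pw u t * (y : G)⁻¹ * (pw u t)⁻¹ = r₀ := congrArg Subtype.val hy
    refine ⟨y, y.2, t, ?_⟩
    calc (y : G)⁻¹ * g * u * ((y : G)⁻¹ * g)⁻¹ = (y : G)⁻¹ * (g * u * g⁻¹) * y := by group
      _ = pw u t := by rw [he, ← hy']; group
  have hNR : ∀ n : G, ∀ t : ZMod 13, n * u * n⁻¹ = pw u t → n ∈ R → n = 1 := by
    intro n t hn hnR
    refine hfpf u hu n hnR ?_
    have hq : pw u t * u⁻¹ ∈ R := by
      rw [← hn, show n * u * n⁻¹ * u⁻¹ = n * (u * n⁻¹ * u⁻¹) by group]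
      exact R.mul_mem hnR (hRn.conj_mem _ (R.inv_mem hnR) _)
    have h1 : pw u (t - 1) = 1 := by
      by_contra hne
      refine hR13 _ (show pw u (t - 1) ∈ R by rwa [sub_eq_add_neg, pw_add hu13, pw_neg hu13, pw_one]) ?_
      rw [horu _ fun e => hne (by rw [e, pw_zero])]
    rw [sub_eq_zero.1 (pw_inj hu (h1.trans (pw_zero u).symm)), pw_one, mul_inv_eq_iff_eq_mul] at hn
    rw [← hn, mul_inv_cancel_right]
  have hpow : ∀ n : G, ∀ t : ZMod 13, n * u * n⁻¹ = pw u t → ∀ k : ℕ, n ^ k = 1 → t ^ k = 1 := by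
    intro n t hn k hk
    have := exponent_pow hu13 hn k
    rw [hk, one_mul, inv_one, mul_one] at this
    exact (pw_inj hu ((pw_one u).trans this)).symm
  have hexact : ∀ n : G, ∀ t : ZMod 13, n * u * n⁻¹ = pw u t → ¬ 13 ∣ orderOf n → orderOf t = orderOf n := by
    intro n t hn h13'
    refine Nat.dvd_antisymm (orderOf_dvd_of_pow_eq_one (hpow n t hn _ (pow_orderOf_eq_one n))) ?_
    refine orderOf_dvd_of_pow_eq_one ?_
    have := exponent_pow hu13 hn (orderOf t)
    rw [pow_orderOf_eq_one, pw_one] at this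
    refine fixes_nothing h hu (fun hd => h13' (hd.trans (orderOf_pow_dvd _))) ?_
    rw [← (mul_inv_eq_iff_eq_mul.1 this), mul_inv_cancel_right]
  have ht12 : ∀ n : G, ∀ t : ZMod 13, n * u * n⁻¹ = pw u t → t ^ 12 = 1 := by
    intro n t hn
    refine ZMod.pow_card_sub_one_eq_one fun e => hu1 ?_
    rw [e, pw_zero, mul_inv_eq_one] at hn
    exact mul_eq_left.1 hn
  -- an element of order eight
  obtain ⟨g8, hg8⟩ := h8
  obtain ⟨r8, hr8, t8, hn8⟩ := hfrat g8
  set n := r8⁻¹ * g8 with hn_def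
  have hgn : g8 = r8 * n := by rw [hn_def, mul_inv_cancel_left]
  have hmk : ∀ k : ℕ, (g8 ^ k ∈ R ↔ n ^ k = 1) := fun k => by
    rw [← QuotientGroup.eq_one_iff, QuotientGroup.mk_pow,
      show (g8 : G ⧸ R) = (n : G ⧸ R) by
        rw [hgn, QuotientGroup.mk_mul, (QuotientGroup.eq_one_iff r8).2 hr8, one_mul],
      ← QuotientGroup.mk_pow, QuotientGroup.eq_one_iff]
    exact ⟨fun hk => hNR _ _ (exponent_pow hu13 hn8 k) hk, fun hk => hk ▸ R.one_mem⟩
  have hn8' : n ^ 8 = 1 := (hmk 8).1 (by rw [← hg8, pow_orderOf_eq_one]; exact R.one_mem)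
  have hc_not13 : ¬ 13 ∣ orderOf n := fun hd => by
    have := Nat.le_of_dvd (by norm_num) (hd.trans (orderOf_dvd_of_pow_eq_one hn8'))
    omega
  have hcc : orderOf t8 = orderOf n := hexact n t8 hn8 hc_not13
  have hc12 : orderOf n ∣ 4 := by
    have h1 : orderOf n ∣ 8 := orderOf_dvd_of_pow_eq_one hn8'
    have h2 : orderOf n ∣ 12 := hcc ▸ orderOf_dvd_of_pow_eq_one (ht12 n t8 hn8)
    exact (Nat.dvd_gcd h1 h2).trans (by norm_num)
  by_cases h3R : ∃ y ∈ R, orderOf y = 3
  · -- an element of order three in the core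
    obtain ⟨y, hy, hy3⟩ := h3R
    rcases (Nat.dvd_prime_pow Nat.prime_two).1 (show orderOf n ∣ 2 ^ 2 from hc12) with ⟨i, hi, hci⟩
    rcases lt_or_eq_of_le hi with hlt | rfl
    · have hR8 : g8 ^ 2 ^ i ∈ R := (hmk _).2 (by rw [← hci, pow_orderOf_eq_one])
      have hord : orderOf (g8 ^ 2 ^ i) = 8 / 2 ^ i := by
        rw [orderOf_pow' _ (by positivity), hg8]
        interval_cases i <;> decide
      have hcop : (orderOf y).Coprime (orderOf (g8 ^ 2 ^ i)) := by
        rw [hy3, hord]; interval_cases i <;> decide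
      have h2 := h.commute_three hy3 (CfsgLib.ProductNilpotent.commute_of_coprime hnil hy hR8 hcop) (k := 3) (by
        rw [← pow_mul, mul_comm, pow_mul, show g8 ^ 2 ^ 3 = 1 by rw [show (2 : ℕ) ^ 3 = orderOf g8 by rw [hg8]; norm_num, pow_orderOf_eq_one], one_pow])
      have := orderOf_dvd_of_pow_eq_one (show (g8 ^ 2 ^ i) ^ 2 = 1 by rw [pow_two]; exact h2)
      rw [hord] at this
      interval_cases i <;> norm_num at this
    · -- an element of order four moving the element of order thirteen fixes one of order three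
      have hQ3 : pCore 3 G ≠ ⊥ := by
        obtain ⟨P⟩ : Nonempty (Sylow 3 R) := inferInstance
        haveI : (P : Subgroup R).Normal := inferInstance
        haveI : (P : Subgroup R).Characteristic := P.characteristic_of_normal inferInstance
        have hle : (P : Subgroup R).map R.subtype ≤ pCore 3 G := CfsgLib.le_pCore (P.isPGroup'.map _)
        intro e
        rw [e, le_bot_iff, Subgroup.map_eq_bot_iff_of_injective _ R.subtype_injective] at hle
        exact P.ne_bot_of_dvd_card (hy3 ▸ Subgroup.orderOf_dvd_natCard R hy) hle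
      obtain ⟨hF, hne⟩ := freeMod h hu (p := 3) (by norm_num) (CfsgLib.isPGroup_pCore 3) hQ3
      have hn4 : orderOf n = 4 := hci
      have ht2 : t8 ^ 2 ≠ 1 := fun e => by
        have := orderOf_dvd_of_pow_eq_one e
        rw [hcc, hn4] at this
        norm_num at this
      obtain ⟨k, hk, hk1, hkfix⟩ := hF.exists_fixed_four hne (by rw [← hn4, pow_orderOf_eq_one]) hn8
        ⟨ht2, by rw [show (4 : ℕ) = orderOf t8 by rw [hcc, hn4], pow_orderOf_eq_one]⟩
      obtain ⟨q, -, rfl⟩ := hk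
      obtain ⟨i', hi'⟩ := CfsgLib.isPGroup_pCore (G := G) 3 q
      have hk3 : orderOf ((pCore 3 G).subtype q) = 3 :=
        orderOf_eq_prime (h.pow_eq_one (Or.inl rfl) (congrArg Subtype.val hi')) hk1
      exact h.not_commute (mul_inv_eq_iff_eq_mul.1 hkfix) hn4 hk3 (by norm_num) (by decide)
  · -- the core is a two-group
    have hR2 : IsPGroup 2 R := by
      intro r
      obtain ⟨k, m, hm, hk⟩ := Nat.exists_eq_two_pow_mul_odd (orderOf_pos (r : G)).ne'
      refine ⟨k, ?_⟩
      by_contra hne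
      have hm1 : m ≠ 1 := fun e => hne (Subtype.ext (by
        rw [SubgroupClass.coe_pow, OneMemClass.coe_one, show (2 : ℕ) ^ k = orderOf (r : G) by rw [hk, e, mul_one],
          pow_orderOf_eq_one]))
      obtain ⟨p, hp, hpm⟩ := Nat.exists_prime_and_dvd hm1
      have hpd : p ∣ orderOf (r : G) := hk ▸ hpm.mul_left _
      rcases h.prime_cases hp (hpd.trans (orderOf_dvd_natCard _)) with e | e | e
      · subst e; exact (Nat.not_even_iff_odd.2 hm) (even_iff_two_dvd.2 hpm)
      · subst e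
        exact h3R ⟨_, R.pow_mem r.2 _, orderOf_pow_orderOf_div (orderOf_pos _).ne' hpd⟩
      · subst e; exact hR13 r r.2 hpd
    obtain ⟨g3, hg3⟩ := h3
    obtain ⟨r3, hr3, t3, hn3⟩ := hfrat g3
    set x₁ := r3⁻¹ * g3 with hx₁
    have hx₁3 : orderOf x₁ = 3 := by
      refine orderOf_eq_prime (hNR _ _ (exponent_pow hu13 hn3 3) ?_) fun e => ?_
      · rw [← QuotientGroup.eq_one_iff, QuotientGroup.mk_pow, hx₁, QuotientGroup.mk_mul, QuotientGroup.mk_inv,
          (QuotientGroup.eq_one_iff r3).2 hr3, inv_one, one_mul, ← QuotientGroup.mk_pow, ← hg3,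
          pow_orderOf_eq_one, QuotientGroup.mk_one]
      · rw [hx₁, inv_mul_eq_one] at e
        obtain ⟨i, hi⟩ := IsPGroup.iff_orderOf.1 hR2 ⟨r3, hr3⟩
        rw [Subgroup.orderOf_mk, e, hg3] at hi
        rcases i with _ | i
        · norm_num at hi
        · rw [pow_succ] at hi; omega
    obtain ⟨x, hx3, hxu⟩ : ∃ x : G, orderOf x = 3 ∧ x * u * x⁻¹ = pw u 3 := by
      have ht := hexact x₁ t3 hn3 (by rw [hx₁3]; norm_num)
      rw [hx₁3] at ht
      rcases cube_roots t3 (by rw [← ht, pow_orderOf_eq_one]) (fun e => by rw [e, orderOf_one] at ht; omega) with e | e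
      · exact ⟨x₁, hx₁3, e ▸ hn3⟩
      · refine ⟨x₁ ^ 2, ?_, ?_⟩
        · rw [orderOf_pow' _ two_ne_zero, hx₁3]; decide
        · rw [exponent_pow hu13 hn3 2, e]; congr 1
    have hOp : Op R u x := by
      refine ⟨hRn, hR2, hu13, by rw [← hx3, pow_orderOf_eq_one], ?_, fun r hr => hfpf u hu r hr, fun r hr he => ?_⟩
      · rw [hxu, ← pw_natCast hu13]; rfl
      · obtain ⟨k, hk⟩ := hR2 ⟨r, hr⟩
        exact h.commute_three hx3 (mul_inv_eq_iff_eq_mul.1 he) (congrArg Subtype.val hk)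
    rcases (Nat.dvd_prime_pow Nat.prime_two).1 (show orderOf n ∣ 2 ^ 2 from hc12) with ⟨i, hi, hci⟩
    rcases Nat.eq_zero_or_pos i with rfl | hipos
    · have hgR : g8 ∈ R := by simpa using (hmk 1).2 (by rw [pow_one, ← orderOf_eq_one_iff, hci, pow_zero])
      have := orderOf_dvd_of_pow_eq_one (hOp.pow_four hgR)
      rw [hg8] at this
      norm_num at this
    · -- a commuting pair of orders two and three
      set d := n ^ 2 ^ (i - 1) with hd
      have hd2 : orderOf d = 2 := by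
        rw [hd, orderOf_pow' _ (by positivity), hci]
        interval_cases i <;> decide
      have hdu := exponent_pow hu13 hn8 (2 ^ (i - 1))
      rw [← hd] at hdu
      have htd := hexact d _ hdu (by rw [hd2]; norm_num)
      rw [hd2] at htd
      rw [square_roots (t8 ^ 2 ^ (i - 1)) (orderOf_dvd_iff_pow_eq_one.1 htd.dvd) (fun e => by rw [e, orderOf_one] at htd; omega)] at hdu
      have hmu : (d * x) * u * (d * x)⁻¹ = pw u 10 := by
        have h1 := pw_conj hu13 hdu 1 3
        simp only [pow_one] at h1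
        calc d * x * u * (d * x)⁻¹ = d * (x * u * x⁻¹) * d⁻¹ := by group
          _ = pw u 10 := by rw [hxu, h1, mul_inv_cancel_right]; congr 1
      have hm13 : ¬ 13 ∣ orderOf (d * x) := fun hd13 => by
        have h' := h (d * x)
        simp only [orders, Finset.mem_insert, Finset.mem_singleton] at h'
        rcases h' with e | e | e | e | e | e | e <;> rw [e] at hd13 <;> norm_num at hd13
        have h1 := exponent_pow hu13 hmu 13
        rw [orderOf_dvd_iff_pow_eq_one.1 e.dvd, one_mul, inv_one, mul_one] at h1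
        have h2 := pw_inj hu ((pw_one u).trans h1)
        exact absurd h2 one_ne_ten_pow
      have hm6 := hexact (d * x) 10 hmu hm13
      rw [show orderOf (10 : ZMod 13) = 6 from order_ten] at hm6
      set m := d * x with hm
      have hx' : m ^ 2 * u * (m ^ 2)⁻¹ = pw u 9 := by rw [exponent_pow hu13 hmu 2]; congr 1
      have hd' : m ^ 3 * u * (m ^ 3)⁻¹ = pw u 12 := by rw [exponent_pow hu13 hmu 3]; congr 1
      have hx'3 : orderOf (m ^ 2) = 3 := by rw [orderOf_pow' _ two_ne_zero, ← hm6]; decide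
      have hQ2 : pCore 2 G ≠ ⊥ := fun e => hRne (le_bot_iff.1 ((CfsgLib.le_pCore hR2).trans e.le))
      obtain ⟨hF, hne⟩ := freeMod h hu (p := 2) (by norm_num) (CfsgLib.isPGroup_pCore 2) hQ2
      obtain ⟨k, hk, hkx, hkd⟩ := hF.exists_fixed_six hne (by rw [← hx'3, pow_orderOf_eq_one]) hx' hd'
      haveI := hF.normal
      obtain ⟨i', hi'⟩ := ((CfsgLib.isPGroup_pCore (G := G) 2).to_le (Subgroup.map_subtype_le _)) ⟨k, hk⟩
      have hmm : Commute (m ^ 2) (m ^ 3) := (Commute.refl m).pow_pow 2 3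
      have hcx : Commute (m ^ 2) k := mul_inv_eq_iff_eq_mul.1 hkx
      have hk2 := h.commute_three hx'3 hcx (congrArg Subtype.val hi')
      have hdd : m ^ 3 * m ^ 3 = 1 := by
        rw [← pow_add, show 3 + 3 = orderOf m from hm6, pow_orderOf_eq_one]
      have hsq : ∃ j, (k * m ^ 3) ^ 2 ^ j = 1 := by
        have hmem : k * (m ^ 3 * k * (m ^ 3)⁻¹) ∈ (Subgroup.center (pCore 2 G)).map (pCore 2 G).subtype :=
          mul_mem hk (hF.normal.conj_mem k hk _)
        obtain ⟨j, hj⟩ := ((CfsgLib.isPGroup_pCore (G := G) 2).to_le (Subgroup.map_subtype_le _)) ⟨_, hmem⟩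
        refine ⟨j + 1, ?_⟩
        rw [pow_succ' 2 j, pow_mul, show (k * m ^ 3) ^ 2 = k * (m ^ 3 * k * (m ^ 3)⁻¹) by
          rw [pow_two, inv_eq_of_mul_eq_one_left hdd]; group]
        exact congrArg Subtype.val hj
      obtain ⟨j, hj⟩ := hsq
      have hkm := h.commute_three hx'3 (hcx.mul_right hmm) hj
      refine hkd ?_
      rw [inv_eq_of_mul_eq_one_left hdd]
      calc m ^ 3 * k * m ^ 3 = (k * k) * (m ^ 3 * k * m ^ 3) := by rw [hk2, one_mul]
        _ = k * ((k * m ^ 3) * (k * m ^ 3)) := by group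
        _ = k := by rw [hkm, mul_one]

end CfsgLib.SpecThirteenSol
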