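import Mathlib

/-!
Facts about the symmetric group of degree four: a fourth-order element, the square of it, a three-cycle.
-/

set_option autoImplicit false

namespace CfsgLib.SpecThirteenSol

open Equiv

/-- The twelve products of a three-cycle and the conjugates of a double transposition. -/
def words {X : Type} [Monoid X] (B C : X) : List X :=
  [1, C, C * C, B, B * C, B * C * C, C * B, C * B * C, C * B * C * C, C * C * B, C * C * B * C,
    C * C * B * C * C]

theorem conj_word : ∀ A C : Perm (Fin 4), A ^ 4 = 1 → A ^ 2 ≠ 1 → C ^ 3 = 1 → C ≠ 1 →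
    A⁻¹ * C * A ∈ words (A ^ 2) C := by decide +kernel

theorem all_words : ∀ A C : Perm (Fin 4), A ^ 4 = 1 → A ^ 2 ≠ 1 → C ^ 3 = 1 → C ≠ 1 → ∀ Y : Perm (Fin 4),
    Y ∈ words (A ^ 2) C ∨ A⁻¹ * Y ∈ words (A ^ 2) C := by decide +kernel

theorem even_prod : ∀ A C : Perm (Fin 4), A ^ 4 = 1 → A ^ 2 ≠ 1 → C ^ 3 = 1 →
    (A ^ 2 * C) ^ 4 = 1 → (A ^ 2 * C) ^ 2 = 1 := by decide +kernel

end CfsgLib.SpecThirteenSol
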