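import Cfsg.Agent.Lib.SpecThirteen.Basic
import Cfsg.Agent.Lib.SpecThirteenSol.SymFour
import Cfsg.Agent.Lib.Basic
import Cfsg.Agent.Lib.Elementary
import Cfsg.Agent.Lib.Frobenius.Complement
import Cfsg.Agent.Lib.Frobenius.UniqueSubgroup
import Cfsg.Agent.Lib.SpecThirteenSol.CoreNonTrivial

/-!
A Frobenius complement with the element orders of `PSL₃(3)` prime to thirteen: a double cover of the symmetric
group of degree four.
-/

set_option autoImplicit false
set_option linter.unusedSectionVars false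

namespace CfsgLib.SpecThirteenSol

open CfsgLib.SpecThirteen Cfsg

universe u

variable {G : Type u} [Group G]

/-- A normal abelian thirteen-group with a complement of order prime to thirteen. -/
structure Frame (K H : Subgroup G) : Prop where
  normal : K.Normal
  thirteen : IsPGroup 13 K
  ne : K ≠ ⊥
  compl : Subgroup.IsComplement' K H
  coprime : ¬ 13 ∣ Nat.card H

variable [Finite G]

theorem fpf_on (h : Thirteen G) {K : Subgroup G} (hK : IsPGroup 13 K) {g : G} (hg : ¬ 13 ∣ orderOf g) (hg1 : g ≠ 1)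
    {k : G} (hk : k ∈ K) (hfix : g * k * g⁻¹ = k) : k = 1 := by
  haveI : Fact (Nat.Prime 13) := ⟨by norm_num⟩
  obtain ⟨i, hi⟩ := hK ⟨k, hk⟩
  have hk13 : k ^ 13 = 1 := h.pow_eq_one (Or.inr rfl) (congrArg Subtype.val hi)
  by_contra hk1
  have h13 := h.commute_thirteen (orderOf_eq_prime hk13 hk1) (mul_inv_eq_iff_eq_mul.1 hfix).symm
  rcases (Nat.dvd_prime (by norm_num)).1 (orderOf_dvd_of_pow_eq_one h13) with e | e
  · exact hg1 (orderOf_eq_one_iff.1 e)
  · exact hg (e ▸ dvd_rfl)

/-- An involution inverts. -/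
theorem inverts (h : Thirteen G) {K : Subgroup G} [K.Normal] (hK : IsPGroup 13 K) {t : G} (ht : orderOf t = 2)
    {k : G} (hk : k ∈ K) : t * k * t⁻¹ = k⁻¹ := by
  have htt : t * t = 1 := by rw [← pow_two, ← ht, pow_orderOf_eq_one]
  let φ : K →* K := (MulAut.conjNormal t : MulAut K).toMonoidHom
  have hfree : MonoidHom.FixedPointFree φ := fun y hy => Subtype.ext
    (fpf_on h hK (g := t) (by rw [ht]; norm_num) (fun e => by rw [e, orderOf_one] at ht; omega) y.2 (congrArg Subtype.val hy))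
  have hinv : Function.Involutive φ := fun y => by
    show (MulAut.conjNormal t : MulAut K) ((MulAut.conjNormal t : MulAut K) y) = y
    rw [← MulAut.mul_apply, ← map_mul, htt, map_one, MulAut.one_apply]
  exact congrArg Subtype.val (congrFun (hfree.coe_eq_inv_of_involutive hinv) ⟨k, hk⟩)

theorem abelian_of_involution (h : Thirteen G) {K : Subgroup G} [K.Normal] (hK : IsPGroup 13 K) {t : G}
    (ht : orderOf t = 2) : ∀ a ∈ K, ∀ b ∈ K, a * b = b * a := by
  intro a ha b hb
  have e : (a * b)⁻¹ = a⁻¹ * b⁻¹ := by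
    rw [← inverts h hK ht (K.mul_mem ha hb), ← inverts h hK ht ha, ← inverts h hK ht hb]; group
  rw [mul_inv_rev] at e
  have := congrArg (fun y => y⁻¹) e
  simpa [mul_inv_rev] using this

theorem three_fermat : ∀ a : ZMod 3, a = a ^ 13 := by decide

/-- Two involutions whose product has order prime to thirteen coincide. -/
theorem involution_eq (h : Thirteen G) {K : Subgroup G} [K.Normal] (hK : IsPGroup 13 K) (hne : K ≠ ⊥) {t t' : G}
    (ht : orderOf t = 2) (ht' : orderOf t' = 2) (hp : ¬ 13 ∣ orderOf (t * t')) : t = t' := by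
  obtain ⟨k, hk, hk1⟩ := (K.bot_or_exists_ne_one).resolve_left hne
  by_contra hne'
  have htt : t' * t' = 1 := by rw [← pow_two, ← ht', pow_orderOf_eq_one]
  refine hk1 (fpf_on h hK hp (fun e => hne' ?_) hk ?_)
  · rw [eq_inv_of_mul_eq_one_left e, inv_eq_of_mul_eq_one_left htt]
  · calc t * t' * k * (t * t')⁻¹ = t * (t' * k * t'⁻¹) * t⁻¹ := by group
      _ = k := by rw [inverts h hK ht' hk, ← conj_inv, inverts h hK ht hk, inv_inv]

/-- Three-subgroups of order prime to the core have order at most three. -/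
theorem three_uniq (h : Thirteen G) {K : Subgroup G} [K.Normal] (hK : IsPGroup 13 K) (hne : K ≠ ⊥)
    (hab : ∀ a ∈ K, ∀ b ∈ K, a * b = b * a) {Q : Subgroup G} (hQ : IsPGroup 3 Q) {y z : G} (hy : y ∈ Q)
    (hz : z ∈ Q) (hz3 : orderOf z = 3) : y ∈ Subgroup.zpowers z := by
  haveI : Fact (Nat.Prime 3) := ⟨by norm_num⟩
  haveI : IsMulCommutative K := ⟨⟨fun a b => Subtype.ext (hab a a.2 b b.2)⟩⟩
  have hn13 : ∀ a ∈ Q, ¬ 13 ∣ orderOf a := fun a ha hd => by
    obtain ⟨i, hi⟩ := IsPGroup.iff_orderOf.1 hQ ⟨a, ha⟩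
    rw [Subgroup.orderOf_mk] at hi
    rw [hi] at hd
    exact absurd ((Nat.prime_dvd_prime_iff_eq (by norm_num) (by norm_num)).1
      (Nat.Prime.dvd_of_dvd_pow (by norm_num) hd)) (by norm_num)
  have hU := CfsgLib.Frob.uniqSub_of_fpf (V := K) hne (p := 3) (A := Q)
    (fun g _ => by rw [Subgroup.normalizer_eq_top]; trivial) (fun a ha ha1 => (Subgroup.eq_bot_iff_forall _).2
      fun k hk => fpf_on h hK (hn13 a ha) ha1 hk.1
        (mul_inv_eq_iff_eq_mul.2 (Subgroup.mem_centralizer_singleton_iff.1 hk.2).symm)) hQ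
  obtain ⟨i, hi⟩ := hQ ⟨y, hy⟩
  have hy3 : (⟨y, hy⟩ : Q) ^ 3 = 1 :=
    Subtype.ext (h.pow_eq_one (Or.inl rfl) (congrArg Subtype.val hi))
  obtain ⟨j, hj⟩ := hU.mem hy3 (z := ⟨z, hz⟩) (by rw [Subgroup.orderOf_mk]; exact hz3)
  exact ⟨j, congrArg Subtype.val hj⟩

/-- Above the core there is no element of order thirteen. -/
theorem index_not_dvd (hsolv : Group.IsSolvable G) (h : Thirteen G) (hne : pCore 13 G ≠ ⊥)
    (h2 : ∃ g : G, orderOf g = 2) : ¬ 13 ∣ (pCore 13 G).index := by
  classical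
  haveI : Fact (Nat.Prime 13) := ⟨by norm_num⟩
  haveI : Fact (Nat.Prime 2) := ⟨by norm_num⟩
  haveI : Fact (Nat.Prime 3) := ⟨by norm_num⟩
  intro hd
  set K := pCore 13 G with hK
  have hKp : IsPGroup 13 K := CfsgLib.isPGroup_pCore 13
  obtain ⟨t₀, ht₀⟩ := h2
  have hab := abelian_of_involution h hKp ht₀
  haveI : Group.IsSolvable (G ⧸ K) := Group.isSolvable_of_surjective (QuotientGroup.mk'_surjective K)
  haveI : Nontrivial (G ⧸ K) := Finite.one_lt_card_iff_nontrivial.1 (by
    rw [← Subgroup.index_eq_card]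
    have := Nat.le_of_dvd (Nat.pos_of_ne_zero Subgroup.index_ne_zero_of_finite) hd
    omega)
  obtain ⟨p, N, hp, hN, hN0, hNp⟩ := exists_normal_pgroup (G := G ⧸ K) inferInstance
  haveI := hN
  haveI := Fact.mk hp
  obtain ⟨k, hk⟩ := IsPGroup.iff_card.1 hNp
  set L := N.comap (QuotientGroup.mk' K) with hL
  haveI hLn : L.Normal := hN.comap _
  have hp13 : p ≠ 13 := by
    intro e
    subst e
    have hLp : IsPGroup 13 L := by
      refine IsPGroup.comap_of_ker_isPGroup hNp _ ?_
      rw [QuotientGroup.ker_mk']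
      exact hKp
    have hLK : L ≤ K := CfsgLib.le_pCore hLp
    refine hN0 ((Subgroup.eq_bot_iff_forall _).2 fun q hq => ?_)
    obtain ⟨g, rfl⟩ := QuotientGroup.mk'_surjective K q
    exact (QuotientGroup.eq_one_iff g).2 (hLK hq)
  have hdN : 13 ∣ L.index := by
    rw [hL, Subgroup.index_comap_of_surjective _ (QuotientGroup.mk'_surjective K)]
    have h1 := N.card_mul_index
    rw [← Subgroup.index_eq_card, hk] at h1
    rw [← h1] at hd
    refine ((Nat.Prime.dvd_mul (by norm_num)).1 hd).resolve_left fun e => hp13 ?_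
    exact ((Nat.prime_dvd_prime_iff_eq (by norm_num) hp).1 (Nat.Prime.dvd_of_dvd_pow (by norm_num) e)).symm
  have hpd : p ∣ Nat.card L := by
    have h1 : p ∣ Nat.card N := by
      rcases k with _ | k
      · exact absurd (Subgroup.card_eq_one.1 (hk.trans (pow_zero p))) hN0
      · exact hk ▸ dvd_pow_self p (Nat.succ_ne_zero k)
    have h2 : Nat.card N ∣ Nat.card L := by
      have := Subgroup.card_map_dvd L (QuotientGroup.mk' K)
      rwa [hL, Subgroup.map_comap_eq_self_of_surjective (QuotientGroup.mk'_surjective K), ← hL] at this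
    exact h1.trans h2
  obtain ⟨Q⟩ : Nonempty (Sylow p L) := inferInstance
  set QG := (Q : Subgroup L).map L.subtype with hQG
  have hQp : IsPGroup p QG := Q.isPGroup'.map _
  have hsup := Sylow.normalizer_sup_eq_top (N := L) Q
  set NQ := Subgroup.normalizer (QG : Set G) with hNQ
  have h13N : 13 ∣ Nat.card NQ := by
    refine hdN.trans ?_
    have htop : NQ.map (QuotientGroup.mk' L) = ⊤ := by
      have := congrArg (Subgroup.map (QuotientGroup.mk' L)) hsup
      rwa [Subgroup.map_sup, QuotientGroup.map_mk'_self, sup_bot_eq,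
        Subgroup.map_top_of_surjective _ (QuotientGroup.mk'_surjective L)] at this
    have := Subgroup.card_map_dvd NQ (QuotientGroup.mk' L)
    rwa [htop, Subgroup.card_top, ← Subgroup.index_eq_card] at this
  obtain ⟨v, hv⟩ := exists_prime_orderOf_dvd_card' (G := NQ) 13 h13N
  rw [← Subgroup.orderOf_coe] at hv
  obtain ⟨q, hq⟩ := exists_prime_orderOf_dvd_card' (G := QG) p (by
    rw [hQG, ← Nat.card_congr ((Q : Subgroup L).equivMapOfInjective L.subtype L.subtype_injective).toEquiv]
    exact Q.dvd_card_of_dvd_card hpd)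
  rw [← Subgroup.orderOf_coe] at hq
  have hvq : (v : G) * q * (v : G)⁻¹ ∈ QG := (Subgroup.mem_normalizer_iff.1 v.2 _).1 q.2
  have hq13 : ¬ 13 ∣ orderOf (q : G) := by
    rw [hq]; exact fun e => hp13 ((Nat.prime_dvd_prime_iff_eq (by norm_num) hp).1 e).symm
  have hq1 : (q : G) ≠ 1 := fun e => by rw [e, orderOf_one] at hq; exact hp.ne_one hq.symm
  suffices hc : (v : G) * q * (v : G)⁻¹ = q from hq1 (fixes_nothing h hv hq13 hc)
  rcases h.prime_cases hp (hpd.trans (Subgroup.card_subgroup_dvd_card L)) with e | e | e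
  · subst e
    refine involution_eq h hKp hne ?_ hq ?_
    · rw [← MulAut.conj_apply, MulEquiv.orderOf_eq, hq]
    · intro hd'
      obtain ⟨i, hi⟩ := IsPGroup.iff_orderOf.1 hQp ⟨_, QG.mul_mem hvq q.2⟩
      rw [Subgroup.orderOf_mk] at hi
      rw [hi] at hd'
      exact absurd ((Nat.prime_dvd_prime_iff_eq (by norm_num) (by norm_num)).1
        (Nat.Prime.dvd_of_dvd_pow (by norm_num) hd')) (by norm_num)
  · subst e
    obtain ⟨i, hi⟩ := three_uniq h hKp hne hab hQp hvq q.2 hq
    -- conjugation by an element of order thirteen on a group of order three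
    have key : ∀ n : ℕ, (v : G) ^ n * q * ((v : G) ^ n)⁻¹ = (q : G) ^ (i ^ n) := by
      intro n
      induction n with
      | zero => simp
      | succ n ih =>
        have hi' : (v : G) * q * (v : G)⁻¹ = (q : G) ^ i := hi.symm
        calc (v : G) ^ (n + 1) * q * ((v : G) ^ (n + 1))⁻¹
            = (v : G) ^ n * ((v : G) * q * (v : G)⁻¹) * ((v : G) ^ n)⁻¹ := by rw [pow_succ]; group
          _ = ((v : G) ^ n * q * ((v : G) ^ n)⁻¹) ^ i := by rw [hi', conj_zpow]
          _ = _ := by rw [ih, ← zpow_mul, pow_succ]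
    have h13' := key 13
    rw [orderOf_dvd_iff_pow_eq_one.1 hv.dvd, one_mul, inv_one, mul_one] at h13'
    have hmod : i ≡ i ^ 13 [ZMOD 3] := by
      refine (ZMod.intCast_eq_intCast_iff i (i ^ 13) 3).1 ?_
      push_cast
      exact three_fermat (i : ZMod 3)
    refine hi.symm.trans (Eq.trans ?_ h13'.symm)
    rw [zpow_eq_zpow_iff_modEq, hq]
    exact hmod
  · exact absurd e hp13

/-- A frame exists. -/
theorem exists_frame (hsolv : Group.IsSolvable G) (h : Thirteen G) (h8 : ∃ g : G, orderOf g = 8)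
    (h3 : ∃ g : G, orderOf g = 3) (h13 : ∃ g : G, orderOf g = 13) : ∃ K H : Subgroup G, Frame K H := by
  haveI : Fact (Nat.Prime 13) := ⟨by norm_num⟩
  have hne := pCore_ne_bot hsolv h h8 h3 h13
  have hidx := index_not_dvd hsolv h hne (by
    obtain ⟨g, hg⟩ := h8
    exact ⟨g ^ 4, by rw [orderOf_pow' _ (by norm_num), hg]; decide⟩)
  have hKp : IsPGroup 13 (pCore 13 G) := CfsgLib.isPGroup_pCore 13
  obtain ⟨k, hk⟩ := IsPGroup.iff_card.1 hKp
  obtain ⟨H, hH⟩ := Subgroup.exists_right_complement'_of_coprime (N := pCore 13 G) (by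
    rw [hk]
    exact Nat.Coprime.pow_left k ((Nat.Prime.coprime_iff_not_dvd (by norm_num)).2 hidx))
  refine ⟨_, H, inferInstance, hKp, hne, hH, ?_⟩
  rwa [← hH.symm.index_eq_card] at *

variable {K H : Subgroup G}

theorem Frame.not13 (F : Frame K H) {a : G} (ha : a ∈ H) : ¬ 13 ∣ orderOf a := fun hd =>
  F.coprime (hd.trans (Subgroup.orderOf_dvd_natCard H ha))

theorem Frame.lift (F : Frame K H) {g : G} (hg : ¬ 13 ∣ orderOf g) : ∃ a ∈ H, orderOf a = orderOf g := by
  haveI := F.normal
  haveI : Fact (Nat.Prime 13) := ⟨by norm_num⟩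
  obtain ⟨⟨k, a⟩, hka⟩ := F.compl.2 g
  refine ⟨a, a.2, ?_⟩
  have hmk : ((a : G) : G ⧸ K) = (g : G ⧸ K) := by
    rw [← hka, QuotientGroup.mk_mul, (QuotientGroup.eq_one_iff (k : G)).2 k.2, one_mul]
  have key : ∀ (b : G), ¬ 13 ∣ orderOf b → orderOf (b : G ⧸ K) = orderOf b := by
    intro b hb
    refine Nat.dvd_antisymm (orderOf_map_dvd (QuotientGroup.mk' K) b) ?_
    have hmem : b ^ orderOf (b : G ⧸ K) ∈ K := by
      rw [← QuotientGroup.eq_one_iff, QuotientGroup.mk_pow, pow_orderOf_eq_one]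
    obtain ⟨i, hi⟩ := IsPGroup.iff_orderOf.1 F.thirteen ⟨_, hmem⟩
    rw [Subgroup.orderOf_mk] at hi
    refine orderOf_dvd_of_pow_eq_one (orderOf_eq_one_iff.1 ?_)
    rcases i with _ | i
    · exact hi.trans (pow_zero _)
    · exact absurd ((dvd_pow_self 13 (Nat.succ_ne_zero i)).trans (hi ▸ orderOf_pow_dvd _)) hb
  rw [← key _ (F.not13 a.2), hmk, key g hg]

theorem Frame.involution_unique (F : Frame K H) (h : Thirteen G) {t t' : G} (htH : t ∈ H) (ht'H : t' ∈ H)
    (ht : orderOf t = 2) (ht' : orderOf t' = 2) : t = t' := by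
  haveI := F.normal
  exact involution_eq h F.thirteen F.ne ht ht' (F.not13 (H.mul_mem htH ht'H))

set_option maxHeartbeats 800000 in
/-- The complement is a double cover of the symmetric group of degree four. -/
theorem Frame.double_cover (F : Frame K H) (h : Thirteen G) {a : G} (ha : a ∈ H) (ha8 : orderOf a = 8) {x : G}
    (hx : x ∈ H) (hx3 : orderOf x = 3) :
    ∃ f : H →* Equiv.Perm (Fin 4), Function.Surjective f ∧ f ⟨a, ha⟩ ^ 4 = 1 ∧ f ⟨a, ha⟩ ^ 2 ≠ 1 ∧
      f ⟨x, hx⟩ ^ 3 = 1 ∧ f ⟨x, hx⟩ ≠ 1 ∧ ∀ b : H, f b = 1 ↔ (b : G) = 1 ∨ (b : G) = a ^ 4 := by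
  classical
  haveI := F.normal
  haveI : Fact (Nat.Prime 2) := ⟨by norm_num⟩
  haveI : Fact (Nat.Prime 3) := ⟨by norm_num⟩
  have hz : orderOf (a ^ 4) = 2 := by rw [orderOf_pow' _ (by norm_num), ha8]; decide
  have hzH : a ^ 4 ∈ H := H.pow_mem ha 4
  have hab := abelian_of_involution h F.thirteen hz
  have hinv : ∀ b ∈ H, b * b = 1 → b = 1 ∨ b = a ^ 4 := fun b hb hbb => by
    by_cases hb1 : b = 1
    · exact Or.inl hb1
    · exact Or.inr (F.involution_unique h hb hzH (orderOf_eq_prime (by rw [pow_two, hbb]) hb1) hz)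
  have hzc : ∀ b ∈ H, b * a ^ 4 * b⁻¹ = a ^ 4 := fun b hb =>
    F.involution_unique h (H.mul_mem (H.mul_mem hb hzH) (H.inv_mem hb)) hzH
      (by rw [← MulAut.conj_apply, MulEquiv.orderOf_eq, hz]) hz
  have hsq : ∀ y ∈ H, orderOf y = 3 → ∀ b ∈ H, Commute y b → (∃ k : ℕ, b ^ 2 ^ k = 1) → b = 1 ∨ b = a ^ 4 :=
    fun y hy hy3 b hb hc ⟨k, hk⟩ => hinv b hb (h.commute_three hy3 hc hk)
  -- the two-part
  obtain ⟨T⟩ : Nonempty (Sylow 2 H) := inferInstance
  have hT16 : Nat.card (T : Subgroup H) ≤ 16 := by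
    have hU : CfsgLib.Frob.UniqSub 2 (T : Subgroup H) := by
      intro A B hA hB
      obtain ⟨s, hs⟩ := exists_prime_orderOf_dvd_card' (G := A) 2 (by rw [hA])
      obtain ⟨t, ht⟩ := exists_prime_orderOf_dvd_card' (G := B) 2 (by rw [hB])
      rw [← Subgroup.orderOf_coe] at hs ht
      have e : (s : (T : Subgroup H)) = t := Subtype.ext (Subtype.ext (F.involution_unique h
        (SetLike.coe_mem ((s : (T : Subgroup H)) : H)) (SetLike.coe_mem ((t : (T : Subgroup H)) : H))
        (by rwa [Subgroup.orderOf_coe, Subgroup.orderOf_coe]) (by rwa [Subgroup.orderOf_coe, Subgroup.orderOf_coe])))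
      have h1 : Subgroup.zpowers (s : (T : Subgroup H)) = A := Subgroup.eq_of_le_of_card_ge
        (Subgroup.zpowers_le.2 s.2) (by rw [Nat.card_zpowers, hs, hA])
      have h2 : Subgroup.zpowers (t : (T : Subgroup H)) = B := Subgroup.eq_of_le_of_card_ge
        (Subgroup.zpowers_le.2 t.2) (by rw [Nat.card_zpowers, ht, hB])
      rw [← h1, ← h2, e]
    have hexp : ∀ g : (T : Subgroup H), orderOf g ≤ 8 := fun g => by
      obtain ⟨k, hk⟩ := T.isPGroup' g
      refine Nat.le_of_dvd (by norm_num) (orderOf_dvd_of_pow_eq_one (Subtype.ext (Subtype.ext ?_)))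
      have := h.two_pow (g := ((g : H) : G)) (congrArg (fun y : (T : Subgroup H) => ((y : H) : G)) hk)
      simpa using this
    rcases CfsgLib.Frob.cyclic_or_quaternion_two T.isPGroup' hU with hcyc | ⟨n, ⟨e⟩⟩
    · obtain ⟨g, hg⟩ := hcyc.exists_generator
      rw [← orderOf_eq_card_of_forall_mem_zpowers hg]
      exact (hexp g).trans (by norm_num)
    · haveI : NeZero (2 ^ n) := ⟨pow_ne_zero n two_ne_zero⟩
      have h1 := hexp (e.symm (QuaternionGroup.a 1))
      rw [MulEquiv.orderOf_eq, QuaternionGroup.orderOf_a_one] at h1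
      rw [Nat.card_congr e.toEquiv, Nat.card_eq_fintype_card, QuaternionGroup.card]
      omega
  -- the Sylow three-subgroups
  have hcard3 : ∀ P : Sylow 3 H, Nat.card (P : Subgroup H) = 3 := by
    intro P
    have hQ : IsPGroup 3 ((P : Subgroup H).map H.subtype) := P.isPGroup'.map _
    obtain ⟨z, hz3⟩ := exists_prime_orderOf_dvd_card' (G := (P : Subgroup H)) 3 (P.dvd_card_of_dvd_card (by
      rw [← hx3]; exact Subgroup.orderOf_dvd_natCard H hx))
    rw [← Subgroup.orderOf_coe, ← Subgroup.orderOf_coe] at hz3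
    refine le_antisymm ?_ (le_trans (le_of_eq (by
      rw [Subgroup.orderOf_coe, Subgroup.orderOf_coe] at hz3
      exact hz3.symm)) (Nat.le_of_dvd Nat.card_pos (orderOf_dvd_natCard z)))
    rw [Nat.card_congr ((P : Subgroup H).equivMapOfInjective H.subtype H.subtype_injective).toEquiv]
    exact (Subgroup.card_le_of_le fun y hy =>
      three_uniq h F.thirteen F.ne hab hQ hy ⟨(z : H), z.2, rfl⟩ hz3).trans ((Nat.card_zpowers _).trans hz3).le
  obtain ⟨P₀⟩ : Nonempty (Sylow 3 H) := inferInstance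
  -- the action on the Sylow three-subgroups
  have hnormalizes : ∀ P : Sylow 3 H, ∀ b : H, b • P = P → ∀ y : H, y ∈ (P : Subgroup H) → b * y * b⁻¹ ∈ (P : Subgroup H) :=
    fun P b hb y hy => (Subgroup.mem_normalizer_iff.1 (Sylow.smul_eq_iff_mem_normalizer.1 hb) y).1 hy
  have hgen : ∀ P : Sylow 3 H, ∀ y : H, y ∈ (P : Subgroup H) → y ≠ 1 → orderOf (y : G) = 3 ∧
      ∀ w : H, w ∈ (P : Subgroup H) → w = 1 ∨ w = y ∨ w = y * y := by
    intro P y hy hy1
    have hy3 : orderOf y = 3 := by
      refine ((Nat.dvd_prime (by norm_num)).1 ?_).resolve_left fun e => hy1 (orderOf_eq_one_iff.1 e)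
      rw [← hcard3 P]; exact Subgroup.orderOf_dvd_natCard _ hy
    refine ⟨by rw [Subgroup.orderOf_coe, hy3], fun w hw => ?_⟩
    have hP : Subgroup.zpowers y = (P : Subgroup H) := Subgroup.eq_of_le_of_card_ge (Subgroup.zpowers_le.2 hy)
      (by rw [hcard3 P, Nat.card_zpowers, hy3])
    rw [← hP, mem_zpowers_iff_mem_range_orderOf, hy3, Finset.mem_image] at hw
    obtain ⟨j, hj, rfl⟩ := hw
    have hj3 := Finset.mem_range.1 hj
    interval_cases j
    · exact Or.inl (pow_zero y)
    · exact Or.inr (Or.inl (pow_one y))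
    · exact Or.inr (Or.inr (pow_two y))
  have hn : Nat.card (Sylow 3 H) = 4 := by
    obtain ⟨A, hA⟩ : ∃ A, Nat.card H = 2 ^ A * 3 := by
      refine ⟨(Nat.card H).factorization 2, ?_⟩
      have h1 : (Nat.card H).factorization 3 = 1 := by
        have := (P₀.card_eq_multiplicity).symm.trans (hcard3 P₀)
        exact Nat.pow_right_injective (by norm_num) (this.trans (pow_one 3).symm)
      have hsub : (Nat.card H).primeFactors ⊆ {2, 3} := fun p hp => by
        have hpp := Nat.prime_of_mem_primeFactors hp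
        have hpd := Nat.dvd_of_mem_primeFactors hp
        rcases h.prime_cases hpp (hpd.trans (Subgroup.card_subgroup_dvd_card H)) with e | e | e
        · simp [e]
        · simp [e]
        · exact absurd (e ▸ hpd) F.coprime
      calc Nat.card H = (Nat.card H).factorization.prod fun p k => p ^ k :=
            (Nat.prod_factorization_pow_eq_self Nat.card_pos.ne').symm
        _ = ∏ p ∈ ({2, 3} : Finset ℕ), p ^ (Nat.card H).factorization p := by
            rw [Finsupp.prod_of_support_subset _ (by simpa using hsub) _ (fun i _ => pow_zero i)]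
        _ = _ := by rw [Finset.prod_pair (by norm_num), h1, pow_one]
    have hTA : Nat.card (T : Subgroup H) = 2 ^ A := by
      rw [T.card_eq_multiplicity, hA]
      congr 1
      rw [Nat.factorization_mul (by positivity) (by norm_num), Finsupp.add_apply,
        Nat.Prime.factorization_pow Nat.prime_two, Finsupp.single_eq_same,
        Nat.factorization_eq_zero_of_not_dvd (by norm_num), add_zero]
    have hA4 : A ≤ 4 := by
      have : 2 ^ A ≤ 2 ^ 4 := by rw [← hTA]; exact hT16
      exact (Nat.pow_le_pow_iff_right (le_refl 2)).1 this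
    have hmod : Nat.card (Sylow 3 H) % 3 = 1 := (card_sylow_modEq_one 3 H : _ % 3 = 1 % 3)
    have hdvd : Nat.card (Sylow 3 H) ∣ 2 ^ A := by
      refine Nat.Coprime.dvd_of_dvd_mul_right ?_ (hA ▸ P₀.card_dvd_index.trans (Subgroup.index_dvd_card _))
      exact ((Nat.Prime.coprime_iff_not_dvd Nat.prime_three).2 (fun e => by omega)).symm
    have h1 : Nat.card (Sylow 3 H) ≠ 1 := by
      intro e
      haveI := (Nat.card_eq_one_iff_unique.1 e).1
      obtain ⟨y, hy, hy1⟩ := ((P₀ : Subgroup H).bot_or_exists_ne_one).resolve_left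
        (fun e' => by have := hcard3 P₀; rw [e', Subgroup.card_bot] at this; omega)
      obtain ⟨hy3, hall⟩ := hgen P₀ y hy hy1
      have hyy : (y * y) * (y * y) = y := by
        have e3 : y * y * y = 1 := Subtype.ext (by
          rw [Subgroup.coe_mul, Subgroup.coe_mul, ← pow_three', orderOf_dvd_iff_pow_eq_one.1 hy3.dvd]; rfl)
        rw [← mul_assoc, e3, one_mul]
      set b : H := ⟨a, ha⟩
      have hb2 : b ^ 2 * y * (b ^ 2)⁻¹ = y := by
        rcases hall _ (hnormalizes P₀ b (Subsingleton.elim _ _) y hy) with e1 | e1 | e1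
        · exact absurd (by rwa [mul_inv_eq_one, mul_eq_left] at e1) hy1
        · calc b ^ 2 * y * (b ^ 2)⁻¹ = b * (b * y * b⁻¹) * b⁻¹ := by rw [pow_two]; group
            _ = y := by rw [e1, e1]
        · calc b ^ 2 * y * (b ^ 2)⁻¹ = b * (b * y * b⁻¹) * b⁻¹ := by rw [pow_two]; group
            _ = b * (y * y) * b⁻¹ := by rw [e1]
            _ = (b * y * b⁻¹) * (b * y * b⁻¹) := by group
            _ = y := by rw [e1, hyy]
      have hc : Commute (y : G) (a ^ 2) := by
        have := congrArg Subtype.val hb2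
        exact (mul_inv_eq_iff_eq_mul.1 this).symm
      rcases hsq y y.2 hy3 _ (H.pow_mem ha 2) hc ⟨2, by rw [← pow_mul]; exact orderOf_dvd_iff_pow_eq_one.1 ha8.dvd⟩ with e1 | e1
      · have := orderOf_dvd_of_pow_eq_one e1
        rw [ha8] at this; norm_num at this
      · exact absurd (pow_injOn_Iio_orderOf (by rw [Set.mem_Iio, ha8]; norm_num)
          (by rw [Set.mem_Iio, ha8]; norm_num) e1) (by norm_num)
    obtain ⟨j, hj, hje⟩ := (Nat.dvd_prime_pow Nat.prime_two).1 hdvd
    have hj4 : j ≤ 4 := hj.trans hA4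
    rw [hje] at hmod h1 ⊢
    interval_cases j
    · exact absurd (pow_zero 2) h1
    · exact absurd hmod (by norm_num)
    · norm_num
    · exact absurd hmod (by norm_num)
    -- sixteen Sylow subgroups leave no room for the central involution
    exfalso
    have hA' : A = 4 := le_antisymm hA4 hj
    subst hA'
    have h3 := P₀.card_eq_index_normalizer
    rw [hje] at h3
    have h4 := (Subgroup.normalizer ((P₀ : Sylow 3 H) : Set H)).card_mul_index
    rw [← h3, hA] at h4
    have hzN : (⟨a ^ 4, hzH⟩ : H) ∈ Subgroup.normalizer ((P₀ : Sylow 3 H) : Set H) := by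
      refine Subgroup.centralizer_le_normalizer _ (fun y _ => Subtype.ext ?_)
      exact mul_inv_eq_iff_eq_mul.1 (hzc y y.2)
    have h5 := Subgroup.orderOf_dvd_natCard _ hzN
    rw [← Subgroup.orderOf_coe, hz] at h5
    omega
  let ε : Sylow 3 H ≃ Fin 4 := Finite.equivFinOfCardEq hn
  let f : H →* Equiv.Perm (Fin 4) := (ε.permCongrHom : Equiv.Perm (Sylow 3 H) →* _).comp
    (MulAction.toPermHom H (Sylow 3 H))
  have hfix : ∀ b : H, f b = 1 ↔ ∀ P : Sylow 3 H, b • P = P := fun b => by
    constructor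
    · intro e P
      have e2 : MulAction.toPermHom H (Sylow 3 H) b = 1 :=
        ε.permCongrHom.injective (e.trans (map_one _).symm)
      exact congrArg (fun σ : Equiv.Perm (Sylow 3 H) => σ P) e2
    · intro e
      show ε.permCongrHom (MulAction.toPermHom H (Sylow 3 H) b) = 1
      rw [show MulAction.toPermHom H (Sylow 3 H) b = 1 from Equiv.ext e, map_one]
  have hker : ∀ b : H, f b = 1 ↔ (b : G) = 1 ∨ (b : G) = a ^ 4 := by
    intro b
    constructor
    · intro hb
      have hno3 : ∀ y : H, f y = 1 → orderOf (y : G) ≠ 3 := by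
        intro y hy hy3
        rw [Subgroup.orderOf_coe] at hy3
        have hmem : ∀ P : Sylow 3 H, y ∈ (P : Subgroup H) := by
          intro P
          have hN := Sylow.smul_eq_iff_mem_normalizer.1 ((hfix y).1 hy P)
          have hle : Subgroup.zpowers y ≤ Subgroup.normalizer ((P : Subgroup H) : Set H) := Subgroup.zpowers_le.2 hN
          have hP : IsPGroup 3 (Subgroup.zpowers y) := IsPGroup.of_card (n := 1) (by rw [Nat.card_zpowers, hy3, pow_one])
          have := IsPGroup.to_sup_of_normal_right' hP P.isPGroup' hle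
          exact (P.is_maximal' this le_sup_right) ▸ Subgroup.mem_sup_left (Subgroup.mem_zpowers y)
        have hall : ∀ P Q : Sylow 3 H, P = Q := fun P Q => Sylow.ext (by
          have e1 : ∀ R : Sylow 3 H, Subgroup.zpowers y = (R : Subgroup H) := fun R =>
            Subgroup.eq_of_le_of_card_ge (Subgroup.zpowers_le.2 (hmem R)) (by rw [hcard3 R, Nat.card_zpowers, hy3])
          rw [← e1 P, e1 Q])
        haveI : Subsingleton (Sylow 3 H) := ⟨hall⟩
        rw [Nat.card_of_subsingleton P₀] at hn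
        omega
      have hnot3 : ¬ 3 ∣ orderOf (b : G) := fun hd => by
        refine hno3 (b ^ (orderOf (b : G) / 3)) (by rw [map_pow, hb, one_pow]) ?_
        rw [SubgroupClass.coe_pow]
        exact orderOf_pow_orderOf_div (orderOf_pos _).ne' hd
      have hb2 : ∃ k, (b : G) ^ 2 ^ k = 1 := by
        have h' := h (b : G)
        simp only [orders, Finset.mem_insert, Finset.mem_singleton] at h'
        rcases h' with e | e | e | e | e | e | e
        · exact ⟨0, orderOf_dvd_iff_pow_eq_one.1 e.dvd⟩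
        · exact ⟨1, orderOf_dvd_iff_pow_eq_one.1 e.dvd⟩
        · exact absurd (e ▸ dvd_rfl) hnot3
        · exact ⟨2, orderOf_dvd_iff_pow_eq_one.1 e.dvd⟩
        · exact absurd (e ▸ by norm_num) hnot3
        · exact ⟨3, orderOf_dvd_iff_pow_eq_one.1 e.dvd⟩
        · exact absurd (e ▸ dvd_rfl) (F.not13 b.2)
      obtain ⟨y, hy, hy1⟩ := ((P₀ : Subgroup H).bot_or_exists_ne_one).resolve_left
        (fun e' => by have := hcard3 P₀; rw [e', Subgroup.card_bot] at this; omega)
      obtain ⟨hy3, hall⟩ := hgen P₀ y hy hy1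
      refine hsq y y.2 hy3 b b.2 ?_ hb2
      have hm : b * y * b⁻¹ * y⁻¹ ∈ (P₀ : Subgroup H) :=
        (P₀ : Subgroup H).mul_mem (hnormalizes P₀ b ((hfix b).1 hb P₀) y hy) ((P₀ : Subgroup H).inv_mem hy)
      have hfm : f (b * y * b⁻¹ * y⁻¹) = 1 := by simp [hb]
      by_contra hne
      refine hno3 _ hfm (hgen P₀ _ hm fun e => hne ?_).1
      have e2 : b * y = y * b := by rwa [mul_inv_eq_one, mul_inv_eq_iff_eq_mul] at e
      exact (congrArg Subtype.val e2 : (b : G) * y = y * b).symm
    · intro hb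
      refine (hfix b).2 fun P => Sylow.smul_eq_iff_mem_normalizer.2 ?_
      refine Subgroup.centralizer_le_normalizer _ (fun y _ => Subtype.ext ?_)
      rcases hb with e | e
      · simp [e]
      · simpa [e] using mul_inv_eq_iff_eq_mul.1 (hzc y y.2)
  set A := f ⟨a, ha⟩ with hAdef
  set C := f ⟨x, hx⟩ with hCdef
  have hA4 : A ^ 4 = 1 := by
    rw [hAdef, ← map_pow]
    exact (hker _).2 (Or.inr rfl)
  have hA2 : A ^ 2 ≠ 1 := fun e => by
    rw [hAdef, ← map_pow] at e
    rcases (hker _).1 e with e1 | e1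
    · have := orderOf_dvd_of_pow_eq_one (show a ^ 2 = 1 from e1)
      rw [ha8] at this; norm_num at this
    · exact absurd (pow_injOn_Iio_orderOf (by rw [Set.mem_Iio, ha8]; norm_num)
        (by rw [Set.mem_Iio, ha8]; norm_num) (show a ^ 2 = a ^ 4 from e1)) (by norm_num)
  have hC3 : C ^ 3 = 1 := by
    rw [hCdef, ← map_pow]
    exact (hker _).2 (Or.inl (orderOf_dvd_iff_pow_eq_one.1 hx3.dvd))
  have hC1 : C ≠ 1 := fun e => by
    rcases (hker _).1 e with e1 | e1
    · rw [show x = 1 from e1, orderOf_one] at hx3; omega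
    · rw [show x = a ^ 4 from e1, hz] at hx3; omega
  refine ⟨f, fun Y => ?_, hA4, hA2, hC3, hC1, hker⟩
  have hw : ∀ Y, Y ∈ words (A ^ 2) C → Y ∈ f.range := by
    have hB : A ^ 2 ∈ f.range := f.range.pow_mem ⟨_, rfl⟩ 2
    have hC : C ∈ f.range := ⟨_, rfl⟩
    intro Y hY
    simp only [words, List.mem_cons, List.not_mem_nil, or_false] at hY
    rcases hY with rfl | rfl | rfl | rfl | rfl | rfl | rfl | rfl | rfl | rfl | rfl | rfl <;>
      first
        | exact f.range.one_mem
        | (repeat' first | exact hB | exact hC | apply Subgroup.mul_mem)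
  rcases all_words A C hA4 hA2 hC3 hC1 Y with e | e
  · exact hw Y e
  · have := f.range.mul_mem (⟨⟨a, ha⟩, rfl⟩ : A ∈ f.range) (hw _ e)
    rwa [mul_inv_cancel_left] at this

end CfsgLib.SpecThirteenSol
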