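import Cfsg.Agent.Lib.SpecThirteenSol.Pairs
import Cfsg.Agent.Lib.Coprime
import Mathlib

/-!
A two-group with a fixed point free element of order thirteen, normalised by an element of order three whose
centraliser in it has exponent two: the class is at most two and the exponent at most four.
-/

set_option autoImplicit false
set_option linter.unusedSectionVars false

namespace CfsgLib.SpecThirteenSol

open scoped commutatorElement

universe u

variable {G : Type u} [Group G]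

/-- The powers of an element of order dividing thirteen, indexed by residues. -/
def pw (u : G) (a : ZMod 13) : G := u ^ a.val

theorem pw_add {u : G} (hu : u ^ 13 = 1) (a b : ZMod 13) : pw u (a + b) = pw u a * pw u b := by
  rw [pw, pw, pw, ← pow_add, ZMod.val_add, ← pow_eq_pow_mod _ hu]

theorem pw_zero (u : G) : pw u 0 = 1 := by simp [pw]

theorem pw_one (u : G) : pw u 1 = u := by
  haveI : Fact (1 < 13) := ⟨by norm_num⟩
  rw [pw, ZMod.val_one, pow_one]

theorem pw_natCast {u : G} (hu : u ^ 13 = 1) (k : ℕ) : pw u (k : ZMod 13) = u ^ k := by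
  rw [pw, ZMod.val_natCast, ← pow_eq_pow_mod _ hu]

theorem pw_neg {u : G} (hu : u ^ 13 = 1) (a : ZMod 13) : pw u (-a) = (pw u a)⁻¹ :=
  eq_inv_of_mul_eq_one_left (by rw [← pw_add hu, neg_add_cancel, pw_zero])

/-- Conjugation by the powers. -/
def cp (u : G) (a : ZMod 13) (r : G) : G := pw u a * r * (pw u a)⁻¹

theorem cp_add {u : G} (hu : u ^ 13 = 1) (a b : ZMod 13) (r : G) : cp u (a + b) r = cp u a (cp u b r) := by
  simp only [cp, pw_add hu, mul_inv_rev, mul_assoc]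

theorem cp_mul (u : G) (a : ZMod 13) (r s : G) : cp u a (r * s) = cp u a r * cp u a s := by
  simp only [cp]; group

theorem cp_zero (u r : G) : cp u 0 r = r := by simp [cp, pw_zero]

theorem cp_bracket (u : G) (a : ZMod 13) (r s : G) : cp u a ⁅r, s⁆ = ⁅cp u a r, cp u a s⁆ :=
  map_commutatorElement (MulAut.conj (pw u a)) r s

/-- The hypotheses. -/
structure Op (R : Subgroup G) (u x : G) : Prop where
  normal : R.Normal
  two : IsPGroup 2 R
  u13 : u ^ 13 = 1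
  x3 : x ^ 3 = 1
  conj : x * u * x⁻¹ = u ^ 3
  fpf : ∀ r ∈ R, u * r * u⁻¹ = r → r = 1
  sq : ∀ r ∈ R, x * r * x⁻¹ = r → r * r = 1

variable {R : Subgroup G} {u x : G}

theorem Op.cp_mem (h : Op R u x) {N : Subgroup G} (hN : N.Normal) {r : G} (hr : r ∈ N) (a : ZMod 13) :
    cp u a r ∈ N := hN.conj_mem r hr _

theorem Op.x_pw (h : Op R u x) (m : ZMod 13) : x * pw u m = pw u (3 * m) * x := by
  have e : x * pw u m * x⁻¹ = pw u (3 * m) := by
    rw [pw, ← conj_pow, h.conj, ← pow_mul, ← pw_natCast h.u13, Nat.cast_mul, ZMod.natCast_zmod_val,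
      Nat.cast_ofNat]
  rw [← e, inv_mul_cancel_right]

theorem Op.xpow_pw (h : Op R u x) (k : ℕ) (m : ZMod 13) : x ^ k * pw u m = pw u (3 ^ k * m) * x ^ k := by
  induction k with
  | zero => simp
  | succ k ih => rw [pow_succ' x, mul_assoc, ih, ← mul_assoc, h.x_pw, mul_assoc, pow_succ' (3 : ZMod 13), mul_assoc]

/-- The conjugates of the element of order three. -/
def xn (u x : G) (n : ZMod 13) : G := pw u n * x * (pw u n)⁻¹

theorem Op.xn_three (h : Op R u x) (n : ZMod 13) : xn u x n ^ 3 = 1 := by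
  rw [xn, conj_pow, h.x3, mul_one, mul_inv_cancel]

theorem Op.xn_sq (h : Op R u x) {n : ZMod 13} {r : G} (hr : r ∈ R) (hfix : Commute (xn u x n) r) :
    r * r = 1 := by
  have hr' : (pw u n)⁻¹ * r * pw u n ∈ R := by
    simpa using h.normal.conj_mem r hr (pw u n)⁻¹
  have := h.sq _ hr' (by
    have e : xn u x n * r * (xn u x n)⁻¹ = r := by rw [hfix.eq, mul_inv_cancel_right]
    calc x * ((pw u n)⁻¹ * r * pw u n) * x⁻¹
        = (pw u n)⁻¹ * (xn u x n * r * (xn u x n)⁻¹) * pw u n := by rw [xn]; group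
      _ = (pw u n)⁻¹ * r * pw u n := by rw [e])
  calc r * r = pw u n * ((pw u n)⁻¹ * r * pw u n * ((pw u n)⁻¹ * r * pw u n)) * (pw u n)⁻¹ := by group
    _ = 1 := by rw [this, mul_one, mul_inv_cancel]

theorem Op.xn_pow_cp (h : Op R u x) (α : Fin 3) (n a : ZMod 13) (r : G) :
    cp u (shift α n a) (x ^ α.val * r * (x ^ α.val)⁻¹) =
      xn u x n ^ α.val * cp u a r * (xn u x n ^ α.val)⁻¹ := by
  have e : xn u x n ^ α.val * pw u a = pw u (shift α n a) * x ^ α.val := by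
    rw [xn, conj_pow, ← pw_neg h.u13, mul_assoc (pw u n * x ^ α.val), ← pw_add h.u13, mul_assoc,
      h.xpow_pw, ← mul_assoc, ← pw_add h.u13, neg_add_eq_sub]
    rfl
  calc cp u (shift α n a) (x ^ α.val * r * (x ^ α.val)⁻¹)
      = pw u (shift α n a) * x ^ α.val * r * (pw u (shift α n a) * x ^ α.val)⁻¹ := by rw [cp]; group
    _ = xn u x n ^ α.val * pw u a * r * (xn u x n ^ α.val * pw u a)⁻¹ := by rw [e]
    _ = _ := by rw [cp]; group

variable [Finite G]

theorem Op.coprime (h : Op R u x) (y : G) (hy : y ^ 3 = 1 ∨ y ^ 13 = 1) :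
    (Nat.card (Subgroup.zpowers y)).Coprime (Nat.card R) := by
  haveI : Fact (Nat.Prime 2) := ⟨Nat.prime_two⟩
  obtain ⟨k, hk⟩ := IsPGroup.iff_card.1 h.two
  rw [hk, Nat.card_zpowers]
  refine Nat.Coprime.pow_right k ?_
  rcases hy with e | e
  · exact Nat.Coprime.coprime_dvd_left (orderOf_dvd_of_pow_eq_one e) (by norm_num)
  · exact Nat.Coprime.coprime_dvd_left (orderOf_dvd_of_pow_eq_one e) (by norm_num)

/-- Elements fixed modulo a normal subgroup lift to fixed elements. -/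
theorem Op.lift (h : Op R u x) {y : G} (hy : y ^ 3 = 1 ∨ y ^ 13 = 1) {N : Subgroup G} [N.Normal] (hNR : N ≤ R)
    {r : G} (hr : r ∈ R) (hfix : ((y : G) : G ⧸ N) * r = (r : G ⧸ N) * y) :
    ∃ c ∈ R, Commute y c ∧ r⁻¹ * c ∈ N := by
  haveI := h.normal
  have hA : Subgroup.zpowers y ≤ Subgroup.normalizer (R : Set G) := fun g _ => by
    rw [Subgroup.normalizer_eq_top]; trivial
  have hN : ∀ S : Subgroup G, S ≤ Subgroup.normalizer (N : Set G) := fun S g _ => by
    rw [Subgroup.normalizer_eq_top]; trivial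
  obtain ⟨c, ⟨hc, hcy⟩, hcn⟩ := CfsgLib.coprime_fixed_quotient hA (h.coprime y hy)
    (Or.inl (Group.isSolvable_of_comm fun a b => by
      obtain ⟨a, i, rfl⟩ := a
      obtain ⟨b, j, rfl⟩ := b
      exact Subtype.ext ((Commute.refl y).zpow_zpow i j).eq))
    hNR (hN _) (hN _) hr (fun a ha => by
      obtain ⟨k, rfl⟩ := ha
      rw [← QuotientGroup.eq_one_iff]
      simp only [QuotientGroup.mk_mul, QuotientGroup.mk_inv, QuotientGroup.mk_zpow]
      rw [((show Commute (y : G ⧸ N) r from hfix).zpow_left k).eq, mul_assoc, mul_assoc]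
      simp)
  exact ⟨c, hc, hcy y (Subgroup.mem_zpowers y), hcn⟩

theorem Op.quot (h : Op R u x) (N : Subgroup G) [N.Normal] (hNR : N ≤ R) :
    Op (R.map (QuotientGroup.mk' N)) (QuotientGroup.mk' N u) (QuotientGroup.mk' N x) where
  normal := h.normal.map _ (QuotientGroup.mk'_surjective N)
  two := h.two.map _
  u13 := by rw [← map_pow, h.u13, map_one]
  x3 := by rw [← map_pow, h.x3, map_one]
  conj := by rw [← map_inv, ← map_mul, ← map_mul, h.conj, map_pow]
  fpf := by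
    rintro _ ⟨r, hr, rfl⟩ he
    obtain ⟨c, hc, hcu, hn⟩ := h.lift (Or.inr h.u13) hNR hr (mul_inv_eq_iff_eq_mul.1 he)
    have : c = 1 := h.fpf c hc (by rw [hcu.eq, mul_inv_cancel_right])
    rw [this, mul_one] at hn
    exact (QuotientGroup.eq_one_iff r).2 (N.inv_mem_iff.1 hn)
  sq := by
    rintro _ ⟨r, hr, rfl⟩ he
    obtain ⟨c, hc, hcx, hn⟩ := h.lift (Or.inl h.x3) hNR hr (mul_inv_eq_iff_eq_mul.1 he)
    have e2 : (r : G ⧸ N) = (c : G ⧸ N) := QuotientGroup.eq.2 hn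
    show (r : G ⧸ N) * r = 1
    rw [e2, ← QuotientGroup.mk_mul, h.sq c hc (by rw [hcx.eq, mul_inv_cancel_right]), QuotientGroup.mk_one]

/-- An additive function invariant under the fixed point free element vanishes. -/
theorem Op.invariant_zero (h : Op R u x) {A : Type*} [AddGroup A] {N : Subgroup G} [N.Normal] (hNR : N ≤ R)
    (B : G → A) (hadd : ∀ r ∈ N, ∀ s ∈ N, B (r * s) = B r + B s)
    (hinv : ∀ r ∈ N, B (cp u 1 r) = B r) : ∀ r ∈ N, B r = 0 := by
  have hmem : ∀ y : N, (y : G)⁻¹ * cp u 1 y ∈ N := fun y =>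
    N.mul_mem (N.inv_mem y.2) (h.cp_mem inferInstance y.2 1)
  let φ : N → N := fun y => ⟨_, hmem y⟩
  have hinj : Function.Injective φ := by
    intro y z e
    have e1 : (y : G)⁻¹ * cp u 1 y = (z : G)⁻¹ * cp u 1 z := congrArg Subtype.val e
    have e2 : u * ((y : G) * (z : G)⁻¹) * u⁻¹ = (y : G) * (z : G)⁻¹ := by
      simp only [cp, pw_one] at e1
      calc u * ((y : G) * (z : G)⁻¹) * u⁻¹
          = y * ((y : G)⁻¹ * (u * y * u⁻¹)) * (u * (z : G) * u⁻¹)⁻¹ := by group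
        _ = y * ((z : G)⁻¹ * (u * z * u⁻¹)) * (u * (z : G) * u⁻¹)⁻¹ := by rw [e1]
        _ = _ := by group
    exact Subtype.ext (mul_inv_eq_one.1 (h.fpf _ (R.mul_mem (hNR y.2) (R.inv_mem (hNR z.2))) e2))
  intro r hr
  obtain ⟨y, hy⟩ := Finite.surjective_of_injective hinj ⟨r, hr⟩
  have e1 : (y : G)⁻¹ * cp u 1 y = r := congrArg Subtype.val hy
  rw [← e1, hadd _ (N.inv_mem y.2) _ (h.cp_mem inferInstance y.2 1), hinv _ y.2,
    ← hadd _ (N.inv_mem y.2) _ y.2, inv_mul_cancel]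
  have h1 := hadd 1 N.one_mem 1 N.one_mem
  rw [one_mul] at h1
  exact add_eq_left.1 h1.symm

theorem Op.invariant_sum (h : Op R u x) {A : Type*} [AddCommGroup A] {N : Subgroup G} [N.Normal] (hNR : N ≤ R)
    (B : G → A) (hadd : ∀ r ∈ N, ∀ s ∈ N, B (r * s) = B r + B s) {r : G} (hr : r ∈ N) :
    ∑ a : ZMod 13, B (cp u a r) = 0 :=
  h.invariant_zero hNR (fun r => ∑ a : ZMod 13, B (cp u a r))
    (fun r hr s hs => by
      rw [← Finset.sum_add_distrib]
      exact Finset.sum_congr rfl fun a _ => by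
        rw [cp_mul, hadd _ (h.cp_mem inferInstance hr a) _ (h.cp_mem inferInstance hs a)])
    (fun r _ => Fintype.sum_equiv (Equiv.addRight 1) _ _ fun a => by
      rw [Equiv.coe_addRight, cp_add h.u13]) r hr

/-- Normal abelian subgroups are elementary. -/
theorem Op.abelian_exp (h : Op R u x) {K : Subgroup G} [K.Normal] (hKR : K ≤ R)
    (hab : ∀ a ∈ K, ∀ b ∈ K, a * b = b * a) : ∀ k ∈ K, k * k = 1 := by
  classical
  have hc1 : (1 - 3 ^ 1 : ZMod 13) ≠ 0 := by decide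
  have hc2 : (1 - 3 ^ 2 : ZMod 13) ≠ 0 := by decide
  letI : CommGroup K :=
    { (inferInstance : Group K) with mul_comm := fun a b => Subtype.ext (hab a a.2 b b.2) }
  haveI : Fact (Nat.Prime 13) := ⟨by norm_num⟩
  intro k hk
  set κ : K := ⟨k, hk⟩
  let σ : G →* MulAut K := MulAut.conjNormal
  have hzero : ∀ (c : ZMod 13), c ≠ 0 → ∀ y : K, ∏ n : ZMod 13, σ (pw u (c * n)) y = 1 := by
    intro c hc y
    rw [show ∏ n : ZMod 13, σ (pw u (c * n)) y = ∏ n : ZMod 13, σ (pw u n) y from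
      Fintype.prod_equiv (Equiv.mulLeft₀ c hc) _ _ fun n => rfl]
    let B : G → Additive K := fun g => if hg : g ∈ K then Additive.ofMul (⟨g, hg⟩ : K) else 0
    have h1 := h.invariant_sum hKR B (fun r hr s hs => by
      simp only [B, dif_pos hr, dif_pos hs, dif_pos (mul_mem hr hs)]; rfl) y.2
    rw [Finset.sum_congr rfl fun a _ => show B (cp u a y) = Additive.ofMul (σ (pw u a) y) by
      simp only [B, dif_pos (h.cp_mem inferInstance y.2 a)]
      congr 1, ← ofMul_prod] at h1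
    exact ofMul_eq_zero.1 h1
  set T : ZMod 13 → K := fun n => κ * σ (xn u x n) κ * σ (xn u x n) (σ (xn u x n) κ) with hT
  have hT2 : ∀ n, T n * T n = 1 := by
    intro n
    have h3 : σ (xn u x n) (σ (xn u x n) (σ (xn u x n) κ)) = κ := by
      rw [← MulAut.mul_apply, ← MulAut.mul_apply, ← map_mul, ← map_mul, ← pow_three', h.xn_three, map_one]
      rfl
    have hf : σ (xn u x n) (T n) = T n := by
      simp only [hT, map_mul, h3]
      rw [mul_comm, mul_assoc]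
    refine Subtype.ext (h.xn_sq (n := n) (hKR (T n).2) ?_)
    have := congrArg Subtype.val hf
    exact mul_inv_eq_iff_eq_mul.1 this
  have hprod : ∏ n, T n = κ ^ 13 := by
    have hxn : ∀ (j : ℕ) n, σ (xn u x n ^ j) κ = σ (pw u ((1 - 3 ^ j) * n)) (σ (x ^ j) κ) := by
      intro j n
      rw [← MulAut.mul_apply, ← map_mul]
      congr 2
      rw [xn, conj_pow, ← pw_neg h.u13, mul_assoc, h.xpow_pw, ← mul_assoc, ← pw_add h.u13]
      congr 2
      ring
    simp only [hT]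
    rw [Finset.prod_mul_distrib, Finset.prod_mul_distrib, Finset.prod_const, Finset.card_univ, ZMod.card]
    have e1 : ∏ n, σ (xn u x n) κ = 1 := by
      simp only [show ∀ n, σ (xn u x n) κ = σ (xn u x n ^ 1) κ from fun n => by rw [pow_one], hxn]
      exact hzero _ hc1 _
    have e2 : ∏ n, σ (xn u x n) (σ (xn u x n) κ) = 1 := by
      simp only [show ∀ n, σ (xn u x n) (σ (xn u x n) κ) = σ (xn u x n ^ 2) κ from fun n => by
        rw [← MulAut.mul_apply, ← map_mul, pow_two], hxn]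
      exact hzero _ hc2 _
    rw [e1, e2, mul_one, mul_one]
  have h26 : (κ * κ) ^ 13 = 1 := by
    rw [mul_pow, ← hprod, ← Finset.prod_mul_distrib]
    exact Finset.prod_eq_one fun n _ => hT2 n
  obtain ⟨j, hj⟩ := (h.two.to_le hKR) (κ * κ)
  have hg : Nat.gcd (2 ^ j) 13 = 1 := Nat.Coprime.pow_left j (by norm_num)
  have := pow_gcd_eq_one.mpr ⟨hj, h26⟩
  rw [hg, pow_one] at this
  exact congrArg Subtype.val this

theorem bracket_mul_left (a b c : G) : ⁅a * b, c⁆ = a * ⁅b, c⁆ * a⁻¹ * ⁅a, c⁆ := by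
  simp only [commutatorElement_def]; group

theorem bracket_mul_right (a b c : G) : ⁅a, b * c⁆ = ⁅a, b⁆ * (b * ⁅a, c⁆ * b⁻¹) := by
  simp only [commutatorElement_def]; group

theorem hall_witt (a b c : G) : b⁻¹ * ⁅⁅a⁻¹, b⁆⁻¹, c⁻¹⁆ * b * (c⁻¹ * ⁅⁅b⁻¹, c⁆⁻¹, a⁻¹⁆ * c) *
    (a⁻¹ * ⁅⁅c⁻¹, a⁆⁻¹, b⁻¹⁆ * a) = 1 := by
  simp only [commutatorElement_def]; group

/-- When the fourth term of the lower central series is trivial, so is the third. -/
theorem Op.class_le_two (h : Op R u x) (h3 : ⁅⁅⁅R, R⁆, R⁆, R⁆ = ⊥) : ⁅⁅R, R⁆, R⁆ = ⊥ := by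
  classical
  haveI := h.normal
  set C1 := ⁅R, R⁆ with hC1
  set C2 := ⁅C1, R⁆ with hC2
  haveI hn1 : C1.Normal := inferInstance
  haveI hn2 : C2.Normal := inferInstance
  have hC1R : C1 ≤ R := Subgroup.commutator_le_left _ _
  have hC2C1 : C2 ≤ C1 := Subgroup.commutator_le_left _ _
  have hcen : ∀ c ∈ C2, ∀ r ∈ R, c * r = r * c := fun c hc r hr =>
    commutatorElement_eq_one_iff_mul_comm.1 (Subgroup.mem_bot.1 (h3 ▸ Subgroup.commutator_mem_commutator hc hr))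
  have hC1ab : ∀ a ∈ C1, ∀ b ∈ C1, a * b = b * a := by
    have e : ⁅⁅R, R⁆, C1⁆ = ⊥ := Subgroup.commutator_commutator_eq_bot_of_rotate
      (by rw [Subgroup.commutator_comm R C1]; exact h3) h3
    exact fun a ha b hb => commutatorElement_eq_one_iff_mul_comm.1
      (Subgroup.mem_bot.1 (e ▸ Subgroup.commutator_mem_commutator ha hb))
  have hC2ab : ∀ a ∈ C2, ∀ b ∈ C2, a * b = b * a := fun a ha b hb => hC1ab a (hC2C1 ha) b (hC2C1 hb)
  have hC2sq : ∀ a ∈ C2, a * a = 1 := h.abelian_exp (hC2C1.trans hC1R) hC2ab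
  -- the bracket with an element of the derived subgroup
  have fmem : ∀ s ∈ C1, ∀ r ∈ R, ⁅s, r⁆ ∈ C2 := fun s hs r hr => Subgroup.commutator_mem_commutator hs hr
  have fl : ∀ s ∈ C1, ∀ s' ∈ C1, ∀ r ∈ R, ⁅s * s', r⁆ = ⁅s, r⁆ * ⁅s', r⁆ := fun s hs s' hs' r hr => by
    rw [bracket_mul_left, ← hcen _ (fmem s' hs' r hr) s (hC1R hs), mul_inv_cancel_right]
    exact hC2ab _ (fmem s' hs' r hr) _ (fmem s hs r hr)
  have fr : ∀ s ∈ C1, ∀ r ∈ R, ∀ r' ∈ R, ⁅s, r * r'⁆ = ⁅s, r⁆ * ⁅s, r'⁆ := fun s hs r hr r' hr' => by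
    rw [bracket_mul_right, ← hcen _ (fmem s hs r' hr') r hr, mul_inv_cancel_right]
  have fC2 : ∀ s ∈ C2, ∀ r ∈ R, ⁅s, r⁆ = 1 := fun s hs r hr =>
    commutatorElement_eq_one_iff_mul_comm.2 (hcen s hs r hr)
  have fC1 : ∀ s ∈ C1, ∀ r ∈ C1, ⁅s, r⁆ = 1 := fun s hs r hr =>
    commutatorElement_eq_one_iff_mul_comm.2 (hC1ab s hs r hr)
  have fconj : ∀ p ∈ R, ∀ s ∈ C1, ∀ r ∈ R, ⁅p * s * p⁻¹, r⁆ = ⁅s, r⁆ := fun p hp s hs r hr => by
    have hps : ⁅p, s⁆ ∈ C2 := by
      rw [hC2, Subgroup.commutator_comm]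
      exact Subgroup.commutator_mem_commutator hp hs
    rw [show p * s * p⁻¹ = ⁅p, s⁆ * s by rw [commutatorElement_def]; group,
      fl _ (hC2C1 hps) s hs r hr, fC2 _ hps r hr, one_mul]
  -- the triple bracket
  set g : G → G → G → G := fun p q r => ⁅⁅p, q⁆, r⁆ with hg
  have m1 : ∀ p ∈ R, ∀ q ∈ R, ⁅p, q⁆ ∈ C1 := fun p hp q hq => Subgroup.commutator_mem_commutator hp hq
  have gmem : ∀ p ∈ R, ∀ q ∈ R, ∀ r ∈ R, g p q r ∈ C2 := fun p hp q hq r hr => fmem _ (m1 p hp q hq) r hr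
  have gl : ∀ p ∈ R, ∀ p' ∈ R, ∀ q ∈ R, ∀ r ∈ R, g (p * p') q r = g p q r * g p' q r := by
    intro p hp p' hp' q hq r hr
    simp only [hg]
    rw [bracket_mul_left, fl _ (hn1.conj_mem _ (m1 p' hp' q hq) p) _ (m1 p hp q hq) r hr,
      fconj p hp _ (m1 p' hp' q hq) r hr]
    exact hC2ab _ (gmem p' hp' q hq r hr) _ (gmem p hp q hq r hr)
  have gm : ∀ p ∈ R, ∀ q ∈ R, ∀ q' ∈ R, ∀ r ∈ R, g p (q * q') r = g p q r * g p q' r := by
    intro p hp q hq q' hq' r hr
    simp only [hg]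
    rw [bracket_mul_right, fl _ (m1 p hp q hq) _ (hn1.conj_mem _ (m1 p hp q' hq') q) r hr,
      fconj q hq _ (m1 p hp q' hq') r hr]
  have gC : ∀ p ∈ C1, ∀ q ∈ R, ∀ r ∈ R, g p q r = 1 := fun p hp q hq r hr => fC2 _ (fmem p hp q hq) r hr
  have gC' : ∀ p ∈ R, ∀ q ∈ C1, ∀ r ∈ R, g p q r = 1 := fun p hp q hq r hr =>
    fC2 _ (by rw [hC2, Subgroup.commutator_comm]; exact Subgroup.commutator_mem_commutator hp hq) r hr
  -- a separating additive function
  suffices hmain : ∀ p ∈ R, ∀ q ∈ R, ∀ r ∈ R, g p q r = 1 by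
    have hle : C1 ≤ Subgroup.centralizer (R : Set G) := by
      refine Subgroup.commutator_le.2 fun p hp q hq r hr => ?_
      exact (commutatorElement_eq_one_iff_mul_comm.1 (hmain p hp q hq r hr)).symm
    refine (Subgroup.eq_bot_iff_forall _).2 fun y hy => ?_
    have : C2 ≤ ⊥ := Subgroup.commutator_le.2 fun s hs r hr =>
      Subgroup.mem_bot.2 (commutatorElement_eq_one_iff_mul_comm.2 (hle hs r hr).symm)
    exact Subgroup.mem_bot.1 (this hy)
  intro p hp q hq r hr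
  by_contra hne
  let F := AlgebraicClosure (ZMod 2)
  haveI : Fact (Nat.Prime 2) := ⟨Nat.prime_two⟩
  haveI : CharP F 2 := charP_of_injective_algebraMap (algebraMap (ZMod 2) F).injective 2
  have h13 : (13 : F) ≠ 0 := by
    have e : ((13 : ℕ) : F) ≠ 0 := by rw [Ne, CharP.cast_eq_zero_iff F 2]; norm_num
    exact_mod_cast e
  haveI : NeZero ((13 : ℕ) : F) := ⟨by exact_mod_cast h13⟩
  obtain ⟨ζ, hζ'⟩ := IsAlgClosed.exists_root (Polynomial.cyclotomic 13 F)
    (Polynomial.degree_cyclotomic_pos 13 F (by norm_num)).ne'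
  have hζ : IsPrimitiveRoot ζ 13 := Polynomial.isRoot_cyclotomic_iff.1 hζ'
  obtain ⟨Λ, hΛ, hΛne⟩ : ∃ Λ : G → F, (∀ a ∈ C2, ∀ b ∈ C2, Λ (a * b) = Λ a + Λ b) ∧ Λ (g p q r) ≠ 0 := by
    letI : CommGroup C2 :=
      { (inferInstance : Group C2) with mul_comm := fun a b => Subtype.ext (hC2ab a a.2 b b.2) }
    letI : Module (ZMod 2) (Additive C2) := AddCommGroup.zmodModule (n := 2) fun a => by
      refine (two_nsmul a).trans ?_
      exact Additive.toMul.injective (Subtype.ext (hC2sq _ (Additive.toMul a).2))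
    obtain ⟨φ, hφ⟩ := not_forall.1 fun hall => hne (congrArg (fun a : Additive C2 => ((Additive.toMul a : C2) : G))
      ((Module.forall_dual_apply_eq_zero_iff (ZMod 2)
        (Additive.ofMul (⟨g p q r, gmem p hp q hq r hr⟩ : C2))).1 hall))
    refine ⟨fun a => if ha : a ∈ C2 then algebraMap (ZMod 2) F (φ (Additive.ofMul (⟨a, ha⟩ : C2))) else 0,
      fun a ha b hb => ?_, ?_⟩
    · simp only [dif_pos ha, dif_pos hb, dif_pos (mul_mem ha hb)]
      rw [← map_add, ← map_add]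
      rfl
    · simp only [dif_pos (gmem p hp q hq r hr)]
      exact fun e => hφ ((algebraMap (ZMod 2) F).injective (e.trans (map_zero _).symm))
  have hΛ1 : Λ 1 = 0 := by
    have e := hΛ 1 C2.one_mem 1 C2.one_mem
    rw [one_mul] at e
    exact add_eq_left.1 e.symm
  have hcR : ∀ {y : G}, y ∈ R → ∀ a, cp u a y ∈ R := fun hy a => h.cp_mem h.normal hy a
  have hxc : ∀ {N : Subgroup G}, N.Normal → ∀ {y : G}, y ∈ N → ∀ k : ℕ, x ^ k * y * (x ^ k)⁻¹ ∈ N :=
    fun hN y hy k => hN.conj_mem y hy _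
  -- fixed products modulo the derived subgroup
  have hfixR : ∀ (n : ZMod 13), ∀ y ∈ R, ∃ c ∈ R, Commute (xn u x n) c ∧
      (y * (xn u x n * y * (xn u x n)⁻¹) * (xn u x n ^ 2 * y * (xn u x n ^ 2)⁻¹))⁻¹ * c ∈ C1 := by
    intro n y hy
    set z := xn u x n with hz
    refine h.lift (Or.inl (h.xn_three n)) hC1R
      (R.mul_mem (R.mul_mem hy (h.normal.conj_mem y hy _)) (h.normal.conj_mem y hy _)) ?_
    have hcomm : ∀ a ∈ R, ∀ b ∈ R, (a : G ⧸ C1) * b = (b : G ⧸ C1) * a := fun a ha b hb => by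
      rw [← QuotientGroup.mk_mul, ← QuotientGroup.mk_mul]
      refine QuotientGroup.eq.2 ?_
      rw [show (a * b)⁻¹ * (b * a) = ⁅b⁻¹, a⁻¹⁆ by rw [commutatorElement_def]; group]
      exact m1 _ (R.inv_mem hb) _ (R.inv_mem ha)
    have h3z : z * z * z = 1 := by rw [← pow_three']; exact h.xn_three n
    have e : z * (y * (z * y * z⁻¹) * (z ^ 2 * y * (z ^ 2)⁻¹)) =
        (z * y * z⁻¹) * (z ^ 2 * y * (z ^ 2)⁻¹) * y * z := by
      calc _ = (z * y * z⁻¹) * (z ^ 2 * y * (z ^ 2)⁻¹) * (z * z * z * y * (z * z * z)⁻¹) * z := by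
            rw [pow_two]; group
        _ = _ := by rw [h3z]; group
    rw [← QuotientGroup.mk_mul, e, QuotientGroup.mk_mul]
    congr 1
    rw [QuotientGroup.mk_mul, ← hcomm _ hy _ (R.mul_mem (h.normal.conj_mem y hy _) (h.normal.conj_mem y hy _)),
      ← QuotientGroup.mk_mul]
    simp only [mul_assoc]
  have hfixed : ∀ (n : ZMod 13) {a b : G}, a ∈ R → b ∈ R → Commute (xn u x n) a → Commute (xn u x n) b →
      a * b = b * a := fun n a b ha hb hca hcb => by
    calc a * b = (a * b)⁻¹ := eq_inv_of_mul_eq_one_left (h.xn_sq (R.mul_mem ha hb) (hca.mul_right hcb))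
      _ = b * a := by
        rw [mul_inv_rev, inv_eq_of_mul_eq_one_left (h.xn_sq ha hca), inv_eq_of_mul_eq_one_left (h.xn_sq hb hcb)]
  -- pairs in the first two places
  have pair12 : ∀ p ∈ R, ∀ q ∈ R, ∀ r ∈ R, ∀ i j, ¬ Rel i j →
      hat₂ ζ (fun a b => Λ (g (cp u a p) (cp u b q) r)) i j = 0 := by
    intro p hp q hq r hr i j hij
    have e := hat₂_isolated hζ h13 (fun α β a b => Λ (g (cp u a (x ^ α.val * p * (x ^ α.val)⁻¹))
      (cp u b (x ^ β.val * q * (x ^ β.val)⁻¹)) r)) ?_ ?_ ?_ ?_ hij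
    · simpa using e
    · intro a b n
      simp only [h.xn_pow_cp]
      set z := xn u x n
      set P := cp u a p
      set Q := cp u b q
      have hP : P ∈ R := hcR hp a
      have hQ : Q ∈ R := hcR hq b
      have hz : ∀ k : ℕ, ∀ y ∈ R, z ^ k * y * (z ^ k)⁻¹ ∈ R := fun k y hy => h.normal.conj_mem y hy _
      obtain ⟨S, hS, hSc, hSe⟩ := hfixR n P hP
      obtain ⟨T, hT, hTc, hTe⟩ := hfixR n Q hQ
      set Ps := P * (z * P * z⁻¹) * (z ^ 2 * P * (z ^ 2)⁻¹) with hPs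
      set Qs := Q * (z * Q * z⁻¹) * (z ^ 2 * Q * (z ^ 2)⁻¹) with hQs
      have hz1 : ∀ y ∈ R, z * y * z⁻¹ ∈ R := fun y hy => h.normal.conj_mem y hy _
      have hPR : Ps ∈ R := R.mul_mem (R.mul_mem hP (hz1 P hP)) (hz 2 P hP)
      have hQR : Qs ∈ R := R.mul_mem (R.mul_mem hQ (hz1 Q hQ)) (hz 2 Q hQ)
      have hLl : ∀ a ∈ R, ∀ b ∈ R, ∀ c ∈ R, Λ (g (a * b) c r) = Λ (g a c r) + Λ (g b c r) :=
        fun a ha b hb c hc => by rw [gl a ha b hb c hc r hr, hΛ _ (gmem a ha c hc r hr) _ (gmem b hb c hc r hr)]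
      have hLm : ∀ c ∈ R, ∀ a ∈ R, ∀ b ∈ R, Λ (g c (a * b) r) = Λ (g c a r) + Λ (g c b r) :=
        fun c hc a ha b hb => by rw [gm c hc a ha b hb r hr, hΛ _ (gmem c hc a ha r hr) _ (gmem c hc b hb r hr)]
      have hval : Λ (g Ps Qs r) = 0 := by
        have e1 : Λ (g Ps Qs r) = Λ (g S T r) := by
          conv_rhs => rw [show S = Ps * (Ps⁻¹ * S) by group, show T = Qs * (Qs⁻¹ * T) by group]
          have hQT : Qs * (Qs⁻¹ * T) ∈ R := R.mul_mem hQR (hC1R hTe)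
          rw [hLl _ hPR _ (hC1R hSe) _ hQT, gC _ hSe _ hQT r hr, hΛ1, add_zero,
            hLm _ hPR _ hQR _ (hC1R hTe), gC' _ hPR _ hTe r hr, hΛ1, add_zero]
        rw [e1]
        have : g S T r = 1 := by
          simp only [hg]
          rw [commutatorElement_eq_one_iff_mul_comm.2 (hfixed n hS hT hSc hTc), commutatorElement_one_left]
        rw [this, hΛ1]
      rw [← hval, hPs, hQs, hLl _ (R.mul_mem hP (hz1 P hP)) _ (hz 2 P hP) _ hQR,
        hLl _ hP _ (hz1 P hP) _ hQR, hLm _ hP _ (R.mul_mem hQ (hz1 Q hQ)) _ (hz 2 Q hQ),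
        hLm _ (hz1 P hP) _ (R.mul_mem hQ (hz1 Q hQ)) _ (hz 2 Q hQ),
        hLm _ (hz 2 P hP) _ (R.mul_mem hQ (hz1 Q hQ)) _ (hz 2 Q hQ), hLm _ hP _ hQ _ (hz1 Q hQ),
        hLm _ (hz1 P hP) _ hQ _ (hz1 Q hQ), hLm _ (hz 2 P hP) _ hQ _ (hz1 Q hQ)]
      simp only [Fin.sum_univ_three, Fin.val_zero, Fin.val_one, Fin.val_two, pow_zero, pow_one, one_mul,
        inv_one, mul_one]
    · intro b
      simp only [Fin.val_zero, pow_zero, one_mul, inv_one, mul_one]
      exact h.invariant_sum le_rfl (fun y => Λ (g y (cp u b q) r))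
        (fun y hy z hz => by rw [gl y hy z hz _ (hcR hq b) r hr,
          hΛ _ (gmem y hy _ (hcR hq b) r hr) _ (gmem z hz _ (hcR hq b) r hr)]) hp
    · intro a
      simp only [Fin.val_zero, pow_zero, one_mul, inv_one, mul_one]
      exact h.invariant_sum le_rfl (fun y => Λ (g (cp u a p) y r))
        (fun y hy z hz => by rw [gm _ (hcR hp a) y hy z hz r hr,
          hΛ _ (gmem _ (hcR hp a) y hy r hr) _ (gmem _ (hcR hp a) z hz r hr)]) hq
    · intro a b
      simp only [Fin.val_zero, pow_zero, one_mul, inv_one, mul_one]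
      have e2 := h.invariant_sum hC1R (fun y => Λ ⁅y, r⁆) (fun y hy z hz => by
        rw [fl y hy z hz r hr, hΛ _ (fmem y hy r hr) _ (fmem z hz r hr)]) (m1 _ (hcR hp a) _ (hcR hq b))
      rw [← e2]
      refine Finset.sum_congr rfl fun d _ => ?_
      show Λ (g _ _ r) = _
      rw [cp_bracket, ← cp_add h.u13, ← cp_add h.u13, add_comm d a, add_comm d b]
  -- pairs in the last two places
  have pair23 : ∀ s ∈ C1, ∀ r ∈ R, ∀ i j, ¬ Rel i j →
      hat₂ ζ (fun b c => Λ ⁅cp u b s, cp u c r⁆) i j = 0 := by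
    intro s hs r hr i j hij
    have e := hat₂_isolated hζ h13 (fun α β b c => Λ ⁅cp u b (x ^ α.val * s * (x ^ α.val)⁻¹),
      cp u c (x ^ β.val * r * (x ^ β.val)⁻¹)⁆) ?_ ?_ ?_ ?_ hij
    · simpa using e
    · intro a b n
      simp only [h.xn_pow_cp]
      set z := xn u x n
      set P := cp u a s
      set Q := cp u b r
      have hP : P ∈ C1 := h.cp_mem hn1 hs a
      have hQ : Q ∈ R := hcR hr b
      obtain ⟨T, hT, hTc, hTe⟩ := hfixR n Q hQ
      set Ps := P * (z * P * z⁻¹) * (z ^ 2 * P * (z ^ 2)⁻¹) with hPs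
      set Qs := Q * (z * Q * z⁻¹) * (z ^ 2 * Q * (z ^ 2)⁻¹) with hQs
      have hz1 : ∀ y ∈ R, z * y * z⁻¹ ∈ R := fun y hy => h.normal.conj_mem y hy _
      have hz2 : ∀ y ∈ R, z ^ 2 * y * (z ^ 2)⁻¹ ∈ R := fun y hy => h.normal.conj_mem y hy _
      have hw1 : ∀ y ∈ C1, z * y * z⁻¹ ∈ C1 := fun y hy => hn1.conj_mem y hy _
      have hw2 : ∀ y ∈ C1, z ^ 2 * y * (z ^ 2)⁻¹ ∈ C1 := fun y hy => hn1.conj_mem y hy _
      have hPC : Ps ∈ C1 := C1.mul_mem (C1.mul_mem hP (hw1 P hP)) (hw2 P hP)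
      have hQR : Qs ∈ R := R.mul_mem (R.mul_mem hQ (hz1 Q hQ)) (hz2 Q hQ)
      have hLl : ∀ a ∈ C1, ∀ b ∈ C1, ∀ c ∈ R, Λ ⁅a * b, c⁆ = Λ ⁅a, c⁆ + Λ ⁅b, c⁆ :=
        fun a ha b hb c hc => by rw [fl a ha b hb c hc, hΛ _ (fmem a ha c hc) _ (fmem b hb c hc)]
      have hLm : ∀ c ∈ C1, ∀ a ∈ R, ∀ b ∈ R, Λ ⁅c, a * b⁆ = Λ ⁅c, a⁆ + Λ ⁅c, b⁆ :=
        fun c hc a ha b hb => by rw [fr c hc a ha b hb, hΛ _ (fmem c hc a ha) _ (fmem c hc b hb)]
      have hPfix : Commute z Ps := by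
        have h3z : z * z * z = 1 := by rw [← pow_three']; exact h.xn_three n
        show z * Ps = Ps * z
        calc z * Ps = (z * P * z⁻¹) * (z ^ 2 * P * (z ^ 2)⁻¹) * (z * z * z * P * (z * z * z)⁻¹) * z := by
              rw [hPs, pow_two]; group
          _ = (z * P * z⁻¹) * (z ^ 2 * P * (z ^ 2)⁻¹) * P * z := by rw [h3z]; group
          _ = Ps * z := by
              rw [hC1ab _ (C1.mul_mem (hw1 P hP) (hw2 P hP)) P hP, hPs]; group
      have hval : Λ ⁅Ps, Qs⁆ = 0 := by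
        have e1 : Λ ⁅Ps, Qs⁆ = Λ ⁅Ps, T⁆ := by
          conv_rhs => rw [show T = Qs * (Qs⁻¹ * T) by group]
          rw [hLm _ hPC _ hQR _ (hC1R hTe), fC1 _ hPC _ hTe, hΛ1, add_zero]
        rw [e1, commutatorElement_eq_one_iff_mul_comm.2 (hfixed n (hC1R hPC) hT hPfix hTc), hΛ1]
      rw [← hval, hPs, hQs, hLl _ (C1.mul_mem hP (hw1 P hP)) _ (hw2 P hP) _ hQR,
        hLl _ hP _ (hw1 P hP) _ hQR, hLm _ hP _ (R.mul_mem hQ (hz1 Q hQ)) _ (hz2 Q hQ),
        hLm _ (hw1 P hP) _ (R.mul_mem hQ (hz1 Q hQ)) _ (hz2 Q hQ),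
        hLm _ (hw2 P hP) _ (R.mul_mem hQ (hz1 Q hQ)) _ (hz2 Q hQ), hLm _ hP _ hQ _ (hz1 Q hQ),
        hLm _ (hw1 P hP) _ hQ _ (hz1 Q hQ), hLm _ (hw2 P hP) _ hQ _ (hz1 Q hQ)]
      simp only [Fin.sum_univ_three, Fin.val_zero, Fin.val_one, Fin.val_two, pow_zero, pow_one, one_mul,
        inv_one, mul_one]
    · intro b
      simp only [Fin.val_zero, pow_zero, one_mul, inv_one, mul_one]
      exact h.invariant_sum hC1R (fun y => Λ ⁅y, cp u b r⁆)
        (fun y hy z hz => by rw [fl y hy z hz _ (hcR hr b),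
          hΛ _ (fmem y hy _ (hcR hr b)) _ (fmem z hz _ (hcR hr b))]) hs
    · intro a
      simp only [Fin.val_zero, pow_zero, one_mul, inv_one, mul_one]
      exact h.invariant_sum le_rfl (fun y => Λ ⁅cp u a s, y⁆)
        (fun y hy z hz => by rw [fr _ (h.cp_mem hn1 hs a) y hy z hz,
          hΛ _ (fmem _ (h.cp_mem hn1 hs a) y hy) _ (fmem _ (h.cp_mem hn1 hs a) z hz)]) hr
    · intro a b
      simp only [Fin.val_zero, pow_zero, one_mul, inv_one, mul_one]
      have e2 := h.invariant_sum (hC2C1.trans hC1R) Λ hΛ (fmem _ (h.cp_mem hn1 hs a) _ (hcR hr b))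
      rw [← e2]
      refine Finset.sum_congr rfl fun d _ => ?_
      rw [cp_bracket, ← cp_add h.u13, ← cp_add h.u13, add_comm d a, add_comm d b]
  -- the Jacobi identity
  have hinvC2 : ∀ a ∈ C2, a⁻¹ = a := fun a ha => inv_eq_of_mul_eq_one_left (hC2sq a ha)
  have finv_l : ∀ s ∈ C1, ∀ r ∈ R, ⁅s⁻¹, r⁆ = ⁅s, r⁆ := fun s hs r hr => by
    have e := fl s hs s⁻¹ (C1.inv_mem hs) r hr
    rw [mul_inv_cancel, commutatorElement_one_left] at e
    rw [eq_inv_of_mul_eq_one_right e.symm, hinvC2 _ (fmem s hs r hr)]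
  have finv_r : ∀ s ∈ C1, ∀ r ∈ R, ⁅s, r⁻¹⁆ = ⁅s, r⁆ := fun s hs r hr => by
    have e := fr s hs r hr r⁻¹ (R.inv_mem hr)
    rw [mul_inv_cancel, commutatorElement_one_right] at e
    rw [eq_inv_of_mul_eq_one_right e.symm, hinvC2 _ (fmem s hs r hr)]
  have ginv : ∀ p ∈ R, ∀ q ∈ R, ∀ r ∈ R, g p⁻¹ q r = g p q r := fun p hp q hq r hr => by
    have e := gl p hp p⁻¹ (R.inv_mem hp) q hq r hr
    rw [mul_inv_cancel, gC 1 C1.one_mem q hq r hr] at e
    rw [eq_inv_of_mul_eq_one_right e.symm, hinvC2 _ (gmem p hp q hq r hr)]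
  have jac : ∀ a ∈ R, ∀ b ∈ R, ∀ c ∈ R, g a b c * g b c a * g c a b = 1 := by
    intro a ha b hb c hc
    have key : ∀ a ∈ R, ∀ b ∈ R, ∀ c ∈ R, b⁻¹ * ⁅⁅a⁻¹, b⁆⁻¹, c⁻¹⁆ * b = g a b c := by
      intro a ha b hb c hc
      rw [finv_l _ (m1 _ (R.inv_mem ha) b hb) _ (R.inv_mem hc), finv_r _ (m1 _ (R.inv_mem ha) b hb) c hc,
        show ⁅⁅a⁻¹, b⁆, c⁆ = g a b c from ginv a ha b hb c hc,
        ← hcen _ (gmem a ha b hb c hc) b⁻¹ (R.inv_mem hb), inv_mul_cancel_right]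
    have e := hall_witt a b c
    rwa [key a ha b hb c hc, key b hb c hc a ha, key c hc a ha b hb] at e
  have hfinal := triple_eq_zero hζ h13 (fun a b c => Λ (g (cp u a p) (cp u b q) (cp u c r)))
    (fun a b c => Λ (g (cp u b q) (cp u c r) (cp u a p))) (fun a b c => Λ (g (cp u c r) (cp u a p) (cp u b q)))
    (fun a b c => by
      have ha := hcR hp a
      have hb := hcR hq b
      have hc := hcR hr c
      rw [← hΛ _ (gmem _ ha _ hb _ hc) _ (gmem _ hb _ hc _ ha),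
        ← hΛ _ (C2.mul_mem (gmem _ ha _ hb _ hc) (gmem _ hb _ hc _ ha)) _ (gmem _ hc _ ha _ hb),
        jac _ ha _ hb _ hc, hΛ1])
    (fun c i j hij => pair12 p hp q hq _ (hcR hr c) i j hij)
    (fun a i k hik => by
      have e := pair23 ⁅cp u a p, q⁆ (m1 _ (hcR hp a) q hq) r hr i k hik
      simp only [cp_bracket, ← cp_add h.u13] at e
      simp only [hg, add_comm a] at e ⊢
      exact e)
    (fun a j k hjk => pair12 q hq r hr _ (hcR hp a) j k hjk)
    (fun b k i hki => pair12 r hr p hp _ (hcR hq b) k i hki) 0 0 0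
  simp only [cp_zero] at hfinal
  exact hΛne hfinal

/-- The exponent is at most four. -/
theorem Op.pow_four (h : Op R u x) {r : G} (hr : r ∈ R) : r ^ 4 = 1 := by
  haveI := h.normal
  haveI : Fact (Nat.Prime 2) := ⟨Nat.prime_two⟩
  set C1 := ⁅R, R⁆ with hC1
  have hC1R : C1 ≤ R := Subgroup.commutator_le_left _ _
  set C2 := ⁅C1, R⁆ with hC2
  have hC2R : C2 ≤ R := (Subgroup.commutator_le_left _ _).trans hC1R
  set C3 := ⁅C2, R⁆ with hC3
  have hC3R : C3 ≤ R := (Subgroup.commutator_le_left _ _).trans hC2R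
  have h23 : C2 ≤ C3 := by
    have h' := (h.quot C3 hC3R).class_le_two (by
      rw [← Subgroup.map_commutator, ← Subgroup.map_commutator, ← Subgroup.map_commutator, ← hC1, ← hC2, ← hC3,
        QuotientGroup.map_mk'_self])
    rw [← Subgroup.map_commutator, ← Subgroup.map_commutator, ← hC1, ← hC2,
      Subgroup.map_eq_bot_iff, QuotientGroup.ker_mk'] at h'
    exact h'
  haveI : Group.IsNilpotent R := h.two.isNilpotent
  have hbot : C2 = ⊥ := by
    obtain ⟨n, hn⟩ := (nilpotent_iff_lowerCentralSeries (G := R)).1 inferInstance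
    have key : ∀ n, C2 ≤ (Subgroup.lowerCentralSeries (⊤ : Subgroup R) n).map R.subtype := by
      intro n
      induction n with
      | zero => intro y hy; exact ⟨⟨y, hC2R hy⟩, Subgroup.mem_top _, rfl⟩
      | succ n ih =>
        refine h23.trans ?_
        show ⁅C2, R⁆ ≤ _
        rw [Subgroup.lowerCentralSeries_succ, Subgroup.map_commutator, ← MonoidHom.range_eq_map, Subgroup.range_subtype]
        exact Subgroup.commutator_mono ih le_rfl
    have := key n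
    rw [hn, Subgroup.map_bot] at this
    exact le_bot_iff.1 this
  have hab : ∀ a ∈ C1, ∀ b ∈ C1, a * b = b * a := fun a ha b hb =>
    commutatorElement_eq_one_iff_mul_comm.1
      (Subgroup.mem_bot.1 (hbot ▸ Subgroup.commutator_mem_commutator ha (hC1R hb)))
  have hsq : r * r ∈ C1 := by
    have hQ := h.quot C1 hC1R
    haveI := hQ.normal
    have h2 := hQ.abelian_exp le_rfl (by
      rintro _ ⟨a, ha, rfl⟩ _ ⟨b, hb, rfl⟩
      rw [← map_mul, ← map_mul]
      refine QuotientGroup.eq.2 ?_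
      rw [show (a * b)⁻¹ * (b * a) = ⁅b⁻¹, a⁻¹⁆ by rw [commutatorElement_def]; group]
      exact Subgroup.commutator_mem_commutator (R.inv_mem hb) (R.inv_mem ha))
      _ ⟨r, hr, rfl⟩
    rw [← map_mul] at h2
    exact (QuotientGroup.eq_one_iff _).1 h2
  rw [show r ^ 4 = r * r * (r * r) by rw [← pow_two, ← pow_two, ← pow_mul]]
  exact h.abelian_exp hC1R hab _ hsq

end CfsgLib.SpecThirteenSol
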