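import Cfsg.Agent.Lib.SpecThirteenSol.Complement

/-!
The soluble critical groups for the element orders of `PSL₃(3)`: `13^4 : H` with `H` a double cover of `S₄`.
-/

set_option autoImplicit false
set_option linter.unusedSectionVars false

namespace CfsgLib.SpecThirteenSol

open CfsgLib.SpecThirteen Cfsg

universe u

variable {G : Type u} [Group G]

/-- The subgroup generated by two elementwise commuting subgroups is no larger than their product. -/
theorem card_sup_le [Finite G] {A B : Subgroup G} (h : ∀ a ∈ A, ∀ b ∈ B, a * b = b * a) :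
    Nat.card (A ⊔ B : Subgroup G) ≤ Nat.card A * Nat.card B := by
  let φ : A × B →* G := A.subtype.noncommCoprod B.subtype fun a b => h a a.2 b b.2
  have hr : φ.range = A ⊔ B := by
    refine (MonoidHom.noncommCoprod_range A.subtype B.subtype fun a b => h a a.2 b b.2).trans ?_
    rw [Subgroup.range_subtype, Subgroup.range_subtype]
  rw [← hr, ← Nat.card_prod]
  exact Nat.card_le_card_of_surjective φ.rangeRestrict φ.rangeRestrict_surjective

/-- Conjugations mapping a subgroup into itself, as an inclusion. -/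
theorem closure_stable {s : Set G} {W : Subgroup G} {b : G} (h : ∀ y ∈ s, b * y * b⁻¹ ∈ W) :
    ∀ w ∈ Subgroup.closure s, b * w * b⁻¹ ∈ W :=
  fun w hw => (Subgroup.closure_le (W.comap (MulAut.conj b).toMonoidHom)).2 h hw

variable [Finite G] {K H : Subgroup G}

theorem Frame.fpf (F : Frame K H) (h : Thirteen G) {b : G} (hb : b ∈ H) (hb1 : b ≠ 1) {k : G} (hk : k ∈ K)
    (hfix : b * k * b⁻¹ = k) : k = 1 :=
  fpf_on h F.thirteen (F.not13 hb) hb1 hk hfix

/-- Elements of the complement not of order eight are quadratic on the kernel. -/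
theorem Frame.quadratic (F : Frame K H) (h : Thirteen G) (hab : ∀ a ∈ K, ∀ b ∈ K, a * b = b * a) {b : G}
    (hb : b ∈ H) (hb8 : orderOf b ≠ 8) : ∃ c : ℤ, ∀ k ∈ K, (b * k * b⁻¹) * (b⁻¹ * k * b) = k ^ c := by
  haveI := F.normal
  have hn : ∀ (g : G) {k : G}, k ∈ K → g * k * g⁻¹ ∈ K := fun g k hk => F.normal.conj_mem k hk g
  have htwo : ∀ t : G, orderOf t = 2 → ∀ k ∈ K, t * k * t⁻¹ = k⁻¹ := fun t ht k hk => inverts h F.thirteen ht hk
  have hthree : ∀ g ∈ H, orderOf g = 3 → ∀ k ∈ K, (g * k * g⁻¹) * (g⁻¹ * k * g) = k⁻¹ := by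
    intro g hg hg3 k hk
    have hg3' : g * g * g = 1 := by rw [← pow_three', ← hg3, pow_orderOf_eq_one]
    have hgi : g⁻¹ = g * g := inv_eq_of_mul_eq_one_left hg3'
    have hk' : g⁻¹ * k * g ∈ K := by simpa using hn g⁻¹ hk
    have hT : k * (g * k * g⁻¹) * (g⁻¹ * k * g) = 1 := by
      refine F.fpf h hg (fun e => by rw [e, orderOf_one] at hg3; omega)
        (K.mul_mem (K.mul_mem hk (hn g hk)) hk') ?_
      calc g * (k * (g * k * g⁻¹) * (g⁻¹ * k * g)) * g⁻¹
          = (g * k * g⁻¹) * ((g * g) * k * (g * g)⁻¹) * k := by group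
        _ = (g * k * g⁻¹) * (g⁻¹ * k * g) * k := by rw [← hgi, inv_inv]
        _ = _ := by rw [← hab k hk _ (K.mul_mem (hn g hk) hk')]; exact (mul_assoc _ _ _).symm
    rw [mul_assoc] at hT
    exact eq_inv_of_mul_eq_one_right hT
  have h' := h b
  simp only [orders, Finset.mem_insert, Finset.mem_singleton] at h'
  rcases h' with e | e | e | e | e | e | e
  · rw [orderOf_eq_one_iff] at e
    exact ⟨2, fun k _ => by rw [e, zpow_two]; group⟩
  · refine ⟨-2, fun k hk => ?_⟩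
    have hbi : b⁻¹ = b := inv_eq_of_mul_eq_one_left (by rw [← pow_two, ← e, pow_orderOf_eq_one])
    have hbk := htwo b e k hk
    rw [hbi] at hbk ⊢
    rw [hbk, zpow_neg, zpow_two, mul_inv_rev]
  · exact ⟨-1, fun k hk => by rw [hthree b hb e k hk, zpow_neg_one]⟩
  · refine ⟨0, fun k hk => ?_⟩
    have h2 : orderOf (b ^ 2) = 2 := by rw [orderOf_pow' _ two_ne_zero, e]; decide
    have hbi : b⁻¹ = b * b ^ 2 := inv_eq_of_mul_eq_one_left (by
      rw [← pow_succ', ← pow_succ, show 2 + 1 + 1 = orderOf b from e.symm, pow_orderOf_eq_one])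
    have e2 : b⁻¹ * k * b = b * (b ^ 2 * k * (b ^ 2)⁻¹) * b⁻¹ := by
      calc b⁻¹ * k * b = b⁻¹ * k * (b⁻¹)⁻¹ := by rw [inv_inv]
        _ = b * b ^ 2 * k * (b * b ^ 2)⁻¹ := by rw [← hbi]
        _ = _ := by group
    rw [e2, htwo _ h2 k hk, zpow_zero]
    group
  · refine ⟨1, fun k hk => ?_⟩
    have h3 : orderOf (b ^ 3) = 2 := by rw [orderOf_pow' _ (by norm_num), e]; decide
    have h4 : orderOf (b ^ 4) = 3 := by rw [orderOf_pow' _ (by norm_num), e]; decide
    have h6 : b ^ 4 * b ^ 2 = 1 := by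
      rw [← pow_add, show 4 + 2 = orderOf b from e.symm, pow_orderOf_eq_one]
    have q := hthree _ (H.pow_mem hb 4) h4 k hk
    rw [inv_eq_of_mul_eq_one_right h6] at q
    have e1 : b ^ 4 * k * b ^ 2 = (b * k * b⁻¹)⁻¹ := by
      rw [← inv_eq_of_mul_eq_one_right h6]
      calc b ^ 4 * k * (b ^ 4)⁻¹ = b * (b ^ 3 * k * (b ^ 3)⁻¹) * b⁻¹ := by group
        _ = _ := by rw [htwo _ h3 k hk, conj_inv]
    have e2 : b ^ 2 * k * b ^ 4 = (b⁻¹ * k * b)⁻¹ := by
      rw [show b ^ 4 = (b ^ 2)⁻¹ from eq_inv_of_mul_eq_one_left h6]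
      calc b ^ 2 * k * (b ^ 2)⁻¹ = b⁻¹ * (b ^ 3 * k * (b ^ 3)⁻¹) * b := by group
        _ = _ := by rw [htwo _ h3 k hk]; group
    rw [e1, e2, ← mul_inv_rev, inv_inj] at q
    rw [zpow_one, hab _ (hn b hk) _ (by simpa using hn b⁻¹ hk), q]
  · exact absurd e hb8
  · exact absurd (e ▸ dvd_rfl) (F.not13 hb)

/-- A small invariant subgroup of the kernel. -/
theorem Frame.small_invariant (F : Frame K H) (h : Thirteen G) {a : G} (ha : a ∈ H) (ha8 : orderOf a = 8) {x : G}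
    (hx : x ∈ H) (hx3 : orderOf x = 3) :
    ∃ W : Subgroup G, W ≤ K ∧ W ≠ ⊥ ∧ Nat.card W ≤ 13 ^ 4 ∧ ∀ b ∈ H, ∀ w ∈ W, b * w * b⁻¹ ∈ W := by
  classical
  haveI := F.normal
  haveI : Fact (Nat.Prime 13) := ⟨by norm_num⟩
  obtain ⟨f, -, hA4, hA2, hC3, hC1, hker⟩ := F.double_cover h ha ha8 hx hx3
  have hz : orderOf (a ^ 4) = 2 := by rw [orderOf_pow' _ (by norm_num), ha8]; decide
  have hab := abelian_of_involution h F.thirteen hz
  have hexp : ∀ k ∈ K, k ^ 13 = 1 := fun k hk => by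
    obtain ⟨i, hi⟩ := F.thirteen ⟨k, hk⟩
    exact h.pow_eq_one (Or.inr rfl) (congrArg Subtype.val hi)
  have hn : ∀ (g : G) {k : G}, k ∈ K → g * k * g⁻¹ ∈ K := fun g k hk => F.normal.conj_mem k hk g
  set i := a ^ 2 with hi
  have hiH : i ∈ H := H.pow_mem ha 2
  have hinvz : ∀ k ∈ K, a ^ 4 * k * (a ^ 4)⁻¹ = k⁻¹ := fun k hk => inverts h F.thirteen hz hk
  -- the product of the element of order four and the element of order three
  have hix : orderOf (i * x) ≠ 8 := by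
    intro e
    have e4 : f ⟨i * x, H.mul_mem hiH hx⟩ ^ 4 = 1 := by
      rw [← map_pow, hker]
      right
      rw [SubgroupClass.coe_pow]
      exact F.involution_unique h (H.pow_mem (H.mul_mem hiH hx) 4) (H.pow_mem ha 4)
        (by rw [orderOf_pow' _ (by norm_num), e]; decide) hz
    have efx : f ⟨i * x, H.mul_mem hiH hx⟩ = f ⟨a, ha⟩ ^ 2 * f ⟨x, hx⟩ := by
      rw [← map_pow, ← map_mul]; rfl
    rw [efx] at e4
    have e2 := even_prod _ _ hA4 hA2 hC3 e4
    rw [← efx, ← map_pow, hker, SubgroupClass.coe_pow] at e2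
    rcases e2 with e2 | e2
    · have := orderOf_dvd_of_pow_eq_one e2
      rw [e] at this; norm_num at this
    · have h2 : orderOf ((i * x) ^ 2) = 4 := by rw [orderOf_pow' _ two_ne_zero, e]; decide
      rw [show ((⟨i * x, H.mul_mem hiH hx⟩ : H) : G) = i * x from rfl] at e2
      rw [e2, hz] at h2
      omega
  obtain ⟨c, hc⟩ := F.quadratic h hab (H.mul_mem hiH hx) hix
  -- an eigenvector
  obtain ⟨v, hv, hv1, r, hvr⟩ : ∃ v ∈ K, v ≠ 1 ∧ ∃ r : ℕ, i * v * i⁻¹ = v ^ r := by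
    obtain ⟨w, hw, hw1⟩ := (K.bot_or_exists_ne_one).resolve_left F.ne
    by_cases hy : (i * w * i⁻¹) * w ^ 5 = 1
    · refine ⟨w, hw, hw1, 8, ?_⟩
      rw [eq_inv_of_mul_eq_one_left hy]
      refine inv_eq_of_mul_eq_one_right ?_
      rw [← pow_add]; exact hexp w hw
    · refine ⟨_, K.mul_mem (hn i hw) (K.pow_mem hw 5), hy, 5, ?_⟩
      have hcom : Commute (i * w * i⁻¹) (w ^ 5) := hab _ (hn i hw) _ (K.pow_mem hw 5)
      rw [hcom.mul_pow, ← pow_mul, show 5 * 5 = 12 + 13 from rfl, pow_add w 12, hexp w hw, mul_one,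
        show w ^ 12 = w⁻¹ from eq_inv_of_mul_eq_one_left (by rw [← pow_succ]; exact hexp w hw)]
      calc i * (i * w * i⁻¹ * w ^ 5) * i⁻¹ = (i * i * w * (i * i)⁻¹) * (i * w ^ 5 * i⁻¹) := by group
        _ = w⁻¹ * (i * w * i⁻¹) ^ 5 := by
            rw [conj_pow, hi, ← pow_add, hinvz w hw]
        _ = _ := hab _ (K.inv_mem hw) _ (K.pow_mem (hn i hw) 5)
  set v' := x * v * x⁻¹ with hv'
  have hv'K : v' ∈ K := hn x hv
  have hxv' : x * v' * x⁻¹ = (v * v')⁻¹ := by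
    have hx3' : x * x * x = 1 := by rw [← pow_three', ← hx3, pow_orderOf_eq_one]
    refine eq_inv_of_mul_eq_one_right ?_
    refine F.fpf h hx (fun e => by rw [e, orderOf_one] at hx3; omega)
      (K.mul_mem (K.mul_mem hv hv'K) (hn x hv'K)) ?_
    calc x * (v * v' * (x * v' * x⁻¹)) * x⁻¹ = v' * (x * v' * x⁻¹) * ((x * x * x) * v * (x * x * x)⁻¹) := by
          rw [hv']; group
      _ = v' * (x * v' * x⁻¹) * v := by rw [hx3']; group
      _ = _ := by rw [← hab v hv _ (K.mul_mem hv'K (hn x hv'K))]; exact (mul_assoc _ _ _).symm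
  set W0 := Subgroup.closure ({v, v'} : Set G) with hW0
  have hv0 : v ∈ W0 := Subgroup.subset_closure (Or.inl rfl)
  have hv0' : v' ∈ W0 := Subgroup.subset_closure (Or.inr rfl)
  have hW0K : W0 ≤ K := (Subgroup.closure_le K).2 (by rintro y (rfl | rfl); exacts [hv, hv'K])
  have hiv' : i * v' * i⁻¹ ∈ W0 := by
    have q := hc v hv
    have e1 : (i * x) * v * (i * x)⁻¹ = i * v' * i⁻¹ := by rw [hv']; group
    have e2 : (i * x)⁻¹ * v * (i * x) = (v * v') ^ r := by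
      have hii : i⁻¹ = i * a ^ 4 := inv_eq_of_mul_eq_one_left (by
        rw [hi, ← pow_add, ← pow_add, show 2 + 4 + 2 = orderOf a from ha8.symm, pow_orderOf_eq_one])
      have hiv : i⁻¹ * v * i = (v ^ r)⁻¹ := by
        calc i⁻¹ * v * i = i⁻¹ * v * (i⁻¹)⁻¹ := by rw [inv_inv]
          _ = i * a ^ 4 * v * (i * a ^ 4)⁻¹ := by rw [← hii]
          _ = i * (a ^ 4 * v * (a ^ 4)⁻¹) * i⁻¹ := by group
          _ = _ := by rw [hinvz v hv, ← conj_inv, hvr]
      have hxv : x⁻¹ * v * x = (v * v')⁻¹ := by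
        have hx3' : x * x * x = 1 := by rw [← pow_three', ← hx3, pow_orderOf_eq_one]
        rw [← hxv', hv']
        calc x⁻¹ * v * x = x⁻¹ * (x * x * x) * v * (x * x * x)⁻¹ * x := by rw [hx3']; group
          _ = _ := by group
      calc (i * x)⁻¹ * v * (i * x) = x⁻¹ * (i⁻¹ * v * i) * (x⁻¹)⁻¹ := by group
        _ = ((x⁻¹ * v * (x⁻¹)⁻¹) ^ r)⁻¹ := by rw [hiv, conj_pow, conj_inv]
        _ = _ := by rw [inv_inv, hxv, inv_pow, inv_inv]
    rw [e1, e2, ← eq_mul_inv_iff_mul_eq] at q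
    rw [q]
    exact W0.mul_mem (W0.zpow_mem hv0 _) (W0.inv_mem (W0.pow_mem (W0.mul_mem hv0 hv0') _))
  -- stabilisers
  have hmulS : ∀ (U : Subgroup G) (b b' : G), (∀ w ∈ U, b * w * b⁻¹ ∈ U) → (∀ w ∈ U, b' * w * b'⁻¹ ∈ U) →
      ∀ w ∈ U, (b * b') * w * (b * b')⁻¹ ∈ U := fun U b b' h1 h2 w hw => by
    have := h1 _ (h2 w hw)
    rwa [show b * b' * w * (b * b')⁻¹ = b * (b' * w * b'⁻¹) * b⁻¹ by group]
  have hlift : ∀ (U : Subgroup G), U ≤ K → (∀ w ∈ U, x * w * x⁻¹ ∈ U) → (∀ w ∈ U, i * w * i⁻¹ ∈ U) →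
      ∀ Y ∈ words (f ⟨a, ha⟩ ^ 2) (f ⟨x, hx⟩), ∀ g : H, f g = Y → ∀ w ∈ U, (g : G) * w * (g : G)⁻¹ ∈ U := by
    intro U hUK hUx hUi Y hY g hg
    obtain ⟨b, hb, hbU⟩ : ∃ b : H, f b = Y ∧ ∀ w ∈ U, (b : G) * w * (b : G)⁻¹ ∈ U := by
      let R0 : Submonoid (Equiv.Perm (Fin 4)) :=
        { carrier := {Y | ∃ b : H, f b = Y ∧ ∀ w ∈ U, (b : G) * w * (b : G)⁻¹ ∈ U}
          one_mem' := ⟨1, map_one f, fun w hw => by simpa using hw⟩
          mul_mem' := by
            rintro _ _ ⟨b, rfl, hb⟩ ⟨b', rfl, hb'⟩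
            exact ⟨b * b', map_mul f b b', hmulS U b b' hb hb'⟩ }
      have hB : f ⟨a, ha⟩ ^ 2 ∈ R0 := ⟨⟨a, ha⟩ ^ 2, map_pow f _ 2, hUi⟩
      have hC : f ⟨x, hx⟩ ∈ R0 := ⟨⟨x, hx⟩, rfl, hUx⟩
      suffices Y ∈ R0 from this
      simp only [words, List.mem_cons, List.not_mem_nil, or_false] at hY
      rcases hY with rfl | rfl | rfl | rfl | rfl | rfl | rfl | rfl | rfl | rfl | rfl | rfl <;>
        first
          | exact R0.one_mem
          | (repeat' first | exact hB | exact hC | apply Submonoid.mul_mem)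
    have hk : f (b⁻¹ * g) = 1 := by rw [map_mul, map_inv, hb, hg, inv_mul_cancel]
    intro w hw
    rw [show (g : G) = (b : G) * ((b⁻¹ * g : H) : G) by simp]
    refine hmulS U _ _ hbU (fun w hw => ?_) w hw
    rcases (hker _).1 hk with e | e
    · rw [e]; simpa using hw
    · rw [e, hinvz w (hUK hw)]; exact U.inv_mem hw
  have hW0x : ∀ w ∈ W0, x * w * x⁻¹ ∈ W0 := closure_stable (by
    rintro y (rfl | rfl)
    · exact hv0'
    · rw [hxv']; exact W0.inv_mem (W0.mul_mem hv0 hv0'))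
  have hW0i : ∀ w ∈ W0, i * w * i⁻¹ ∈ W0 := closure_stable (by
    rintro y (rfl | rfl)
    · rw [hvr]; exact W0.pow_mem hv0 _
    · exact hiv')
  set W := W0 ⊔ W0.map (MulAut.conj a).toMonoidHom with hW
  have hWK : W ≤ K := sup_le hW0K (by rintro _ ⟨w, hw, rfl⟩; exact hn a (hW0K hw))
  have hWgen : ∀ b : G, (∀ w ∈ W0, b * w * b⁻¹ ∈ W) → (∀ w ∈ W0, b * (a * w * a⁻¹) * b⁻¹ ∈ W) →
      ∀ w ∈ W, b * w * b⁻¹ ∈ W := by
    intro b h1 h2 w hw
    have hle : W ≤ W.comap (MulAut.conj b).toMonoidHom :=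
      sup_le h1 (by rintro _ ⟨w, hw, rfl⟩; exact h2 w hw)
    exact hle hw
  have hleft : ∀ w ∈ W0, w ∈ W := fun w hw => Subgroup.mem_sup_left hw
  have hright : ∀ w ∈ W0, a * w * a⁻¹ ∈ W := fun w hw => Subgroup.mem_sup_right ⟨w, hw, rfl⟩
  have hWa : ∀ w ∈ W, a * w * a⁻¹ ∈ W := hWgen a hright fun w hw => by
    rw [show a * (a * w * a⁻¹) * a⁻¹ = a ^ 2 * w * (a ^ 2)⁻¹ by rw [pow_two]; group]
    exact hleft _ (hW0i w hw)
  have hWx : ∀ w ∈ W, x * w * x⁻¹ ∈ W := hWgen x (fun w hw => hleft _ (hW0x w hw)) fun w hw => by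
    have hword : f (⟨a, ha⟩⁻¹ * ⟨x, hx⟩ * ⟨a, ha⟩) ∈ words (f ⟨a, ha⟩ ^ 2) (f ⟨x, hx⟩) := by
      rw [map_mul, map_mul, map_inv]; exact conj_word _ _ hA4 hA2 hC3 hC1
    have := hright _ (hlift W0 hW0K hW0x hW0i _ hword _ rfl w hw)
    convert this using 1
    simp only [Subgroup.coe_mul, Subgroup.coe_inv]
    group
  refine ⟨W, hWK, fun e => hv1 (by simpa [e] using hleft v hv0), ?_, fun b hb => ?_⟩
  · have hcard0 : Nat.card W0 ≤ 13 ^ 2 := by
      have hle : W0 ≤ Subgroup.zpowers v ⊔ Subgroup.zpowers v' := (Subgroup.closure_le _).2 (by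
        rintro y (rfl | rfl)
        · exact Subgroup.mem_sup_left (Subgroup.mem_zpowers _)
        · exact Subgroup.mem_sup_right (Subgroup.mem_zpowers _))
      refine (Subgroup.card_le_of_le hle).trans ((card_sup_le fun p hp q hq => hab p
        (Subgroup.zpowers_le.2 hv hp) q (Subgroup.zpowers_le.2 hv'K hq)).trans ?_)
      rw [Nat.card_zpowers, Nat.card_zpowers, pow_two]
      exact Nat.mul_le_mul (orderOf_le_of_pow_eq_one (by norm_num) (hexp v hv))
        (orderOf_le_of_pow_eq_one (by norm_num) (hexp v' hv'K))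
    refine (card_sup_le fun p hp q hq => hab p (hW0K hp) q (hWK (Subgroup.mem_sup_right hq))).trans ?_
    rw [show 13 ^ 4 = 13 ^ 2 * 13 ^ 2 from rfl]
    refine Nat.mul_le_mul hcard0 ?_
    rw [← Nat.card_congr (W0.equivMapOfInjective _ (MulAut.conj a).injective).toEquiv]
    exact hcard0
  · have hWi : ∀ w ∈ W, i * w * i⁻¹ ∈ W := by
      rw [hi, pow_two]; exact hmulS W a a hWa hWa
    rcases all_words _ _ hA4 hA2 hC3 hC1 (f ⟨b, hb⟩) with e | e
    · exact hlift W hWK hWx hWi _ e ⟨b, hb⟩ rfl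
    · intro w hw
      have h2 := hWa _ (hlift W hWK hWx hWi _ e (⟨a, ha⟩⁻¹ * ⟨b, hb⟩) (by rw [map_mul, map_inv]) w hw)
      convert h2 using 1
      simp only [Subgroup.coe_mul, Subgroup.coe_inv]
      group

theorem Frame.card_dvd (F : Frame K H) (h : Thirteen G) : Nat.card H ∣ Nat.card K - 1 := by
  classical
  haveI := F.normal
  letI : MulAction H {k : K // k ≠ 1} :=
    { smul := fun b k => ⟨MulAut.conjNormal (b : G) k.1, fun e => k.2 ((map_eq_one_iff _ (MulEquiv.injective _)).1 e)⟩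
      one_smul := fun k => Subtype.ext (by
        show MulAut.conjNormal ((1 : H) : G) k.1 = k.1
        rw [OneMemClass.coe_one, map_one, MulAut.one_apply])
      mul_smul := fun b b' k => Subtype.ext (by
        show MulAut.conjNormal ((b * b' : H) : G) k.1 = MulAut.conjNormal (b : G) (MulAut.conjNormal (b' : G) k.1)
        rw [Subgroup.coe_mul, map_mul, MulAut.mul_apply]) }
  have hstab : ∀ k : {k : K // k ≠ 1}, MulAction.stabilizer H k = ⊥ := fun k => by
    refine (Subgroup.eq_bot_iff_forall _).2 fun b hb => ?_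
    by_contra hb1
    refine k.2 (Subtype.ext (F.fpf h b.2 (fun e => hb1 (Subtype.ext e)) k.1.2 ?_))
    exact congrArg Subtype.val (congrArg Subtype.val (MulAction.mem_stabilizer_iff.1 hb))
  have h1 := Nat.card_congr (MulAction.selfEquivOrbitsQuotientProd hstab)
  rw [Nat.card_prod] at h1
  have h2 : Nat.card {k : K // k ≠ 1} = Nat.card K - 1 := by
    haveI := Fintype.ofFinite K
    rw [Nat.card_eq_fintype_card, Nat.card_eq_fintype_card, Fintype.card_subtype_compl, Fintype.card_subtype_eq]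
  exact ⟨_, (h2.symm.trans h1).trans (mul_comm _ _)⟩

theorem mod_forty_eight (n : ℕ) (h : 13 ^ n % 48 = 1) : n % 4 = 0 := by
  have e : 13 ^ n = (13 ^ 4) ^ (n / 4) * 13 ^ (n % 4) := by rw [← pow_mul, ← pow_add, Nat.div_add_mod]
  rw [e, Nat.mul_mod, Nat.pow_mod] at h
  have hm := Nat.mod_lt n (show 0 < 4 by norm_num)
  generalize n % 4 = j at h hm ⊢
  interval_cases j <;> simp at h ⊢

/-- The soluble case. -/
theorem solvable_case {G : Type u} [Group G] [Finite G] (hsolv : Group.IsSolvable G)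
    (hcrit : Set.range (orderOf : G → ℕ) = ({1, 2, 3, 4, 6, 8, 13} : Set ℕ) ∧
      ∀ (H : Subgroup G) (N : Subgroup ↥H) [N.Normal], (H ≠ ⊤ ∨ N ≠ ⊥) →
        Set.range (orderOf : (↥H ⧸ N) → ℕ) ≠ ({1, 2, 3, 4, 6, 8, 13} : Set ℕ)) :
    ∃ (K H : Subgroup G), K.Normal ∧ IsMulCommutative K ∧ (∀ x ∈ K, x ^ 13 = 1) ∧ Nat.card K = 13 ^ 4 ∧
      K ⊓ H = ⊥ ∧ K ⊔ H = ⊤ ∧ (∀ h ∈ H, h ≠ 1 → ∀ x ∈ K, h * x * h⁻¹ = x → x = 1) ∧
        ∃ (Z : Subgroup ↥H) (_ : Z.Normal), Nat.card Z = 2 ∧ (∀ Z' : Subgroup ↥H, Nat.card Z' = 2 → Z' = Z) ∧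
          Nonempty (↥H ⧸ Z ≃* Equiv.Perm (Fin 4)) := by
  classical
  haveI : Fact (Nat.Prime 13) := ⟨by norm_num⟩
  obtain ⟨hrange, hmin⟩ := hcrit
  have hmem : ∀ n ∈ ({1, 2, 3, 4, 6, 8, 13} : Set ℕ), ∃ g : G, orderOf g = n := fun n hn => by
    rw [← hrange] at hn; exact hn
  have h : Thirteen G := fun g => by
    have hg : orderOf g ∈ Set.range (orderOf : G → ℕ) := ⟨g, rfl⟩
    rw [hrange] at hg
    simpa [orders] using hg
  obtain ⟨K, H, F⟩ := exists_frame hsolv h (hmem 8 (by simp)) (hmem 3 (by simp)) (hmem 13 (by simp))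
  haveI := F.normal
  have hlift : ∀ n ∈ ({1, 2, 3, 4, 6, 8} : Set ℕ), ∃ g ∈ H, orderOf g = n := fun n hn => by
    obtain ⟨g, hg⟩ := hmem n (by
      simp only [Set.mem_insert_iff, Set.mem_singleton_iff] at hn ⊢; tauto)
    obtain ⟨b, hb, hbe⟩ := F.lift (g := g) (by
      rw [hg]
      simp only [Set.mem_insert_iff, Set.mem_singleton_iff] at hn
      rcases hn with rfl | rfl | rfl | rfl | rfl | rfl <;> norm_num)
    exact ⟨b, hb, hbe.trans hg⟩
  obtain ⟨a, ha, ha8⟩ := hlift 8 (by simp)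
  obtain ⟨x, hx, hx3⟩ := hlift 3 (by simp)
  have hz : orderOf (a ^ 4) = 2 := by rw [orderOf_pow' _ (by norm_num), ha8]; decide
  have hzH : a ^ 4 ∈ H := H.pow_mem ha 4
  have hab := abelian_of_involution h F.thirteen hz
  obtain ⟨f, hfs, -, -, -, -, hker⟩ := F.double_cover h ha ha8 hx hx3
  have hexp : ∀ k ∈ K, k ^ 13 = 1 := fun k hk => by
    obtain ⟨i, hi⟩ := F.thirteen ⟨k, hk⟩
    exact h.pow_eq_one (Or.inr rfl) (congrArg Subtype.val hi)
  have hkerset : ∀ b : H, b ∈ f.ker ↔ b ∈ Subgroup.zpowers (⟨a ^ 4, hzH⟩ : H) := fun b => by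
    rw [MonoidHom.mem_ker, hker, mem_zpowers_iff_mem_range_orderOf,
      show orderOf (⟨a ^ 4, hzH⟩ : H) = 2 by rw [← Subgroup.orderOf_coe, hz]]
    simp only [Finset.mem_image, Finset.mem_range]
    constructor
    · rintro (e | e)
      · exact ⟨0, by norm_num, by rw [pow_zero]; exact Subtype.ext e.symm⟩
      · exact ⟨1, by norm_num, by rw [pow_one]; exact Subtype.ext e.symm⟩
    · rintro ⟨j, hj, rfl⟩
      interval_cases j
      · exact Or.inl (by simp)
      · exact Or.inr (by simp)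
  have hkereq : f.ker = Subgroup.zpowers (⟨a ^ 4, hzH⟩ : H) := Subgroup.ext hkerset
  have hker2 : Nat.card f.ker = 2 := by
    rw [hkereq, Nat.card_zpowers, ← Subgroup.orderOf_coe, hz]
  have hH48 : Nat.card H = 48 := by
    have h1 := f.ker.card_mul_index
    rw [hker2, Subgroup.index_ker, MonoidHom.range_eq_top.2 hfs, Subgroup.card_top, Nat.card_eq_fintype_card,
      Fintype.card_perm, Fintype.card_fin] at h1
    rw [← h1]; rfl
  -- minimality
  obtain ⟨W, hWK, hW0, hWcard, hWH⟩ := F.small_invariant h ha ha8 hx hx3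
  have htop : W ⊔ H = ⊤ := by
    by_contra hne
    refine hmin (W ⊔ H) ⊥ (Or.inl hne) ?_
    have hr : Set.range (orderOf : (↥(W ⊔ H) ⧸ (⊥ : Subgroup ↥(W ⊔ H))) → ℕ) =
        Set.range (orderOf : ↥(W ⊔ H) → ℕ) := by
      ext n
      constructor
      · rintro ⟨q, rfl⟩
        exact ⟨QuotientGroup.quotientBot q, MulEquiv.orderOf_eq _ q⟩
      · rintro ⟨y, rfl⟩
        exact ⟨QuotientGroup.quotientBot.symm y, MulEquiv.orderOf_eq _ y⟩
    rw [hr]
    refine Set.Subset.antisymm ?_ fun n hn => ?_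
    · rintro _ ⟨y, rfl⟩
      rw [← hrange, ← Subgroup.orderOf_coe]
      exact ⟨_, rfl⟩
    · by_cases h13 : n = 13
      · subst h13
        obtain ⟨w, hw, hw1⟩ := (W.bot_or_exists_ne_one).resolve_left hW0
        refine ⟨⟨w, Subgroup.mem_sup_left hw⟩, ?_⟩
        rw [← Subgroup.orderOf_coe]
        exact orderOf_eq_prime (hexp w (hWK hw)) hw1
      · obtain ⟨b, hb, hbn⟩ := hlift n (by
          simp only [Set.mem_insert_iff, Set.mem_singleton_iff] at hn ⊢; tauto)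
        exact ⟨⟨b, Subgroup.mem_sup_right hb⟩, by rw [← Subgroup.orderOf_coe]; exact hbn⟩
  have hKW : K = W := by
    refine le_antisymm (fun k hk => ?_) hWK
    have hnorm : H ≤ Subgroup.normalizer (W : Set G) := fun b hb => by
      refine Subgroup.mem_normalizer_iff.2 fun w => ⟨hWH b hb w, fun hw => ?_⟩
      have := hWH b⁻¹ (H.inv_mem hb) _ hw
      simpa [mul_assoc] using this
    have hk' : k ∈ W ⊔ H := htop ▸ Subgroup.mem_top k
    rw [sup_comm] at hk'
    obtain ⟨b, hb, w, hw, e⟩ := (Set.mem_mul.1 (by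
      rwa [← SetLike.mem_coe, Subgroup.coe_mul_of_left_le_normalizer_right _ _ hnorm] at hk'))
    have hbK : b ∈ K := by
      have : b = k * w⁻¹ := by rw [← e, mul_inv_cancel_right]
      rw [this]; exact K.mul_mem hk (K.inv_mem (hWK hw))
    have hb1 : b = 1 := Subgroup.disjoint_def.1 F.compl.disjoint hbK hb
    rw [← e, hb1, one_mul]; exact hw
  obtain ⟨m, hm⟩ := IsPGroup.iff_card.1 F.thirteen
  have hK4 : Nat.card K = 13 ^ 4 := by
    have hd := F.card_dvd h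
    rw [hH48, hm] at hd
    have hm0 : m ≠ 0 := fun e => F.ne (Subgroup.card_eq_one.1 (by rw [hm, e, pow_zero]))
    have hmod : 13 ^ m % 48 = 1 := by
      have h1 : 1 ≤ 13 ^ m := Nat.one_le_pow _ _ (by norm_num)
      obtain ⟨q, hq⟩ := hd
      omega
    have h4 := mod_forty_eight m hmod
    have hle : 13 ^ m ≤ 13 ^ 4 := by rw [← hm, hKW]; exact hWcard
    have := (Nat.pow_le_pow_iff_right (by norm_num : 1 < 13)).1 hle
    rw [hm, show m = 4 by omega]
  refine ⟨K, H, F.normal, ⟨⟨fun p q => Subtype.ext (hab p p.2 q q.2)⟩⟩, hexp, hK4, F.compl.disjoint.eq_bot,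
    F.compl.sup_eq_top, fun b hb hb1 k hk => F.fpf h hb hb1 hk, f.ker, inferInstance, hker2, fun Z' hZ' => ?_,
    ⟨QuotientGroup.quotientKerEquivOfSurjective f hfs⟩⟩
  haveI : Fact (Nat.Prime 2) := ⟨by norm_num⟩
  obtain ⟨s, hs⟩ := exists_prime_orderOf_dvd_card' (G := Z') 2 (by rw [hZ'])
  rw [← Subgroup.orderOf_coe] at hs
  have hsz : (s : H) = ⟨a ^ 4, hzH⟩ :=
    Subtype.ext (F.involution_unique h (SetLike.coe_mem (s : H)) hzH (by rw [Subgroup.orderOf_coe]; exact hs) hz)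
  rw [hkereq, ← hsz]
  exact (Subgroup.eq_of_le_of_card_ge (Subgroup.zpowers_le.2 s.2) (by rw [hZ', Nat.card_zpowers, hs])).symm

end CfsgLib.SpecThirteenSol
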