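import Mathlib

/-!
Functions on `(ZMod 13)^2` and `(ZMod 13)^3` with the symmetries of a Frobenius group `13 : 3`:
transforms supported on related pairs of frequencies, and the vanishing of a triple bracket.
-/

set_option autoImplicit false
set_option linter.unusedSectionVars false

namespace CfsgLib.SpecThirteenSol

universe u

/-- The frequencies are different members of one orbit of multiplication by three. -/
def Rel (i j : ZMod 13) : Prop := i ≠ 0 ∧ (j = 3 * i ∨ j = 9 * i)

instance (i j : ZMod 13) : Decidable (Rel i j) := inferInstanceAs (Decidable (_ ∧ _))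

theorem not_triple : ∀ i j k : ZMod 13, Rel i j → Rel (i + j) k → ¬ Rel j k ∧ ¬ Rel k i := by decide

theorem isolated_aux : ∀ (i j : ZMod 13) (a b : Fin 3), Rel i j ∨ i = 0 ∨ j = 0 ∨ i + j = 0 ∨
    (a = 0 ∧ b = 0) ∨ (9 : ZMod 13) ^ (a : ℕ) * i + 9 ^ (b : ℕ) * j ≠ i + j := by decide

theorem isolated (i j : ZMod 13) (h : ¬ Rel i j) (hi : i ≠ 0) (hj : j ≠ 0) (hs : i + j ≠ 0) (a b : Fin 3)
    (e : (9 : ZMod 13) ^ (a : ℕ) * i + 9 ^ (b : ℕ) * j = i + j) : a = 0 ∧ b = 0 := by
  rcases isolated_aux i j a b with r | r | r | r | r | r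
  · exact absurd r h
  · exact absurd r hi
  · exact absurd r hj
  · exact absurd r hs
  · exact r
  · exact absurd e r

theorem three_nine (n : ℕ) : (3 : ZMod 13) ^ n * 9 ^ n = 1 := by
  rw [← mul_pow, show (3 : ZMod 13) * 9 = 1 by decide, one_pow]

variable {F : Type u} [Field F]

/-- The transform at a pair of frequencies. -/
def hat₂ (ζ : F) (φ : ZMod 13 → ZMod 13 → F) (i j : ZMod 13) : F :=
  ∑ a, ∑ b, ζ ^ (i * a + j * b).val * φ a b

/-- The transform at a triple of frequencies. -/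
def hat₃ (ζ : F) (φ : ZMod 13 → ZMod 13 → ZMod 13 → F) (i j k : ZMod 13) : F :=
  ∑ a, ∑ b, ∑ c, ζ ^ (i * a + j * b + k * c).val * φ a b c

variable {ζ : F}

theorem e_add (hζ : IsPrimitiveRoot ζ 13) (s t : ZMod 13) : ζ ^ (s + t).val = ζ ^ s.val * ζ ^ t.val := by
  rw [← pow_add, ZMod.val_add, ← pow_eq_pow_mod _ hζ.pow_eq_one]

theorem sum_e (hζ : IsPrimitiveRoot ζ 13) (s : ZMod 13) :
    ∑ n : ZMod 13, ζ ^ (s * n).val = if s = 0 then (13 : F) else 0 := by
  split_ifs with h
  · subst h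
    simp
  · have hb : ∑ n : ZMod 13, ζ ^ (s * n).val = ∑ n : ZMod 13, ζ ^ n.val := by
      haveI : Fact (Nat.Prime 13) := ⟨by norm_num⟩
      exact Fintype.sum_equiv (Equiv.mulLeft₀ s h) _ _ fun n => rfl
    rw [hb]
    have := hζ.geom_sum_eq_zero (by norm_num)
    rw [Finset.sum_range] at this
    exact this

/-- A function with vanishing transform vanishes. -/
theorem inversion (hζ : IsPrimitiveRoot ζ 13) (h13 : (13 : F) ≠ 0) {f : ZMod 13 → F}
    (h : ∀ i, ∑ a, ζ ^ (i * a).val * f a = 0) (c : ZMod 13) : f c = 0 := by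
  have key : ∑ a, (∑ i : ZMod 13, ζ ^ ((a - c) * i).val) * f a = 0 := by
    calc _ = ∑ i : ZMod 13, ζ ^ (-(i * c)).val * ∑ a, ζ ^ (i * a).val * f a := by
          simp only [Finset.sum_mul, Finset.mul_sum]
          rw [Finset.sum_comm]
          refine Finset.sum_congr rfl fun i _ => Finset.sum_congr rfl fun a _ => ?_
          rw [← mul_assoc, ← e_add hζ]
          congr 3
          ring
      _ = 0 := by simp only [h, mul_zero, Finset.sum_const_zero]
  simp only [sum_e hζ, sub_eq_zero, ite_mul, zero_mul, Finset.sum_ite_eq', Finset.mem_univ, if_true] at key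
  exact (mul_eq_zero.1 key).resolve_left h13

theorem inversion₃ (hζ : IsPrimitiveRoot ζ 13) (h13 : (13 : F) ≠ 0) {f : ZMod 13 → ZMod 13 → ZMod 13 → F}
    (h : ∀ i j k, hat₃ ζ f i j k = 0) (a b c : ZMod 13) : f a b c = 0 := by
  have h1 : ∀ a j k, ∑ b, ∑ c, ζ ^ (j * b + k * c).val * f a b c = 0 := fun a j k =>
    inversion hζ h13 (f := fun a => ∑ b, ∑ c, ζ ^ (j * b + k * c).val * f a b c) (fun i => by
      rw [← h i j k]
      unfold hat₃
      simp only [Finset.mul_sum]
      refine Finset.sum_congr rfl fun a _ => Finset.sum_congr rfl fun b _ => Finset.sum_congr rfl fun c _ => ?_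
      rw [← mul_assoc, ← e_add hζ, add_assoc]) a
  have h2 : ∀ b k, ∑ c, ζ ^ (k * c).val * f a b c = 0 := fun b k =>
    inversion hζ h13 (f := fun b => ∑ c, ζ ^ (k * c).val * f a b c) (fun j => by
      rw [← h1 a j k]
      simp only [Finset.mul_sum]
      refine Finset.sum_congr rfl fun b _ => Finset.sum_congr rfl fun c _ => ?_
      rw [← mul_assoc, ← e_add hζ]) b
  exact inversion hζ h13 (fun k => h2 b k) c

/-- The conjugate by the `n`-th element of the kernel of the `α`-th power of the element of order three,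
on exponents. -/
def shift (α : Fin 3) (n : ZMod 13) : ZMod 13 ≃ ZMod 13 where
  toFun a := n + 3 ^ α.val * (a - n)
  invFun a := n + 9 ^ α.val * (a - n)
  left_inv a := by
    show n + 9 ^ α.val * (n + 3 ^ α.val * (a - n) - n) = a
    rw [add_sub_cancel_left, ← mul_assoc, mul_comm ((9 : ZMod 13) ^ α.val), three_nine, one_mul,
      add_sub_cancel]
  right_inv a := by
    show n + 3 ^ α.val * (n + 9 ^ α.val * (a - n) - n) = a
    rw [add_sub_cancel_left, ← mul_assoc, three_nine, one_mul, add_sub_cancel]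

theorem hat₂_isolated (hζ : IsPrimitiveRoot ζ 13) (h13 : (13 : F) ≠ 0)
    (φ : Fin 3 → Fin 3 → ZMod 13 → ZMod 13 → F)
    (hfix : ∀ a b n, ∑ α : Fin 3, ∑ β : Fin 3, φ α β (shift α n a) (shift β n b) = 0)
    (hleft : ∀ b, ∑ a, φ 0 0 a b = 0) (hright : ∀ a, ∑ b, φ 0 0 a b = 0)
    (hdiag : ∀ a b, ∑ d, φ 0 0 (a + d) (b + d) = 0)
    {i j : ZMod 13} (h : ¬ Rel i j) : hat₂ ζ (φ 0 0) i j = 0 := by
  by_cases hi : i = 0
  · subst hi
    unfold hat₂
    rw [Finset.sum_comm]
    refine Finset.sum_eq_zero fun b _ => ?_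
    simp only [zero_mul, zero_add, ← Finset.mul_sum, hleft, mul_zero]
  by_cases hj : j = 0
  · subst hj
    unfold hat₂
    refine Finset.sum_eq_zero fun a _ => ?_
    simp only [zero_mul, add_zero, ← Finset.mul_sum, hright, mul_zero]
  by_cases hs : i + j = 0
  · have e : ∀ t b, ζ ^ (i * (t + b) + j * b).val = ζ ^ (i * t).val := fun t b => by
      rw [show i * (t + b) + j * b = i * t by linear_combination b * hs]
    have e2 : hat₂ ζ (φ 0 0) i j = ∑ t, ∑ b, ζ ^ (i * t).val * φ 0 0 (t + b) b := by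
      unfold hat₂
      rw [Finset.sum_comm]
      conv_rhs => rw [Finset.sum_comm]
      refine Finset.sum_congr rfl fun b _ => ?_
      refine (Fintype.sum_equiv (Equiv.addRight b) _ _ fun t => ?_).symm
      show ζ ^ (i * t).val * φ 0 0 (t + b) b = ζ ^ (i * (t + b) + j * b).val * φ 0 0 (t + b) b
      rw [e]
    rw [e2]
    refine Finset.sum_eq_zero fun t _ => ?_
    have hd := hdiag t 0
    simp only [zero_add] at hd
    rw [← Finset.mul_sum, hd, mul_zero]
  have h0 : ∑ n : ZMod 13, ∑ a : ZMod 13, ∑ b : ZMod 13, ζ ^ (i * a + j * b).val *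
      ∑ α : Fin 3, ∑ β : Fin 3, φ α β (shift α n a) (shift β n b) = 0 :=
    Finset.sum_eq_zero fun n _ => Finset.sum_eq_zero fun a _ => Finset.sum_eq_zero fun b _ => by
      rw [hfix, mul_zero]
  have hterm : ∀ α β : Fin 3, ∑ n : ZMod 13, ∑ a : ZMod 13, ∑ b : ZMod 13,
      ζ ^ (i * a + j * b).val * φ α β (shift α n a) (shift β n b) =
      (if i + j - (9 ^ α.val * i + 9 ^ β.val * j) = 0 then (13 : F) else 0) *
        hat₂ ζ (φ α β) (9 ^ α.val * i) (9 ^ β.val * j) := by
    intro α β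
    calc _ = ∑ n : ZMod 13, ∑ a : ZMod 13, ∑ b : ZMod 13,
          ζ ^ ((i + j - (9 ^ α.val * i + 9 ^ β.val * j)) * n).val *
            (ζ ^ (9 ^ α.val * i * a + 9 ^ β.val * j * b).val * φ α β a b) := by
          refine Finset.sum_congr rfl fun n _ => ?_
          refine Fintype.sum_equiv (shift α n) _ _ fun a => ?_
          refine Fintype.sum_equiv (shift β n) _ _ fun b => ?_
          rw [← mul_assoc, ← e_add hζ]
          congr 3
          show _ = _ * n + (9 ^ α.val * i * (n + 3 ^ α.val * (a - n)) + 9 ^ β.val * j * (n + 3 ^ β.val * (b - n)))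
          linear_combination (-(i * (a - n))) * three_nine α.val + (-(j * (b - n))) * three_nine β.val
      _ = _ := by
          rw [← sum_e hζ]
          unfold hat₂
          simp only [Finset.sum_mul, Finset.mul_sum]
          rw [Finset.sum_comm]
          exact Finset.sum_congr rfl fun a _ => Finset.sum_comm
  simp only [Finset.mul_sum] at h0
  simp only [Finset.sum_comm (γ := ZMod 13) (α := Fin 3)] at h0
  simp only [hterm] at h0
  rw [Finset.sum_eq_single (0 : Fin 3), Finset.sum_eq_single (0 : Fin 3)] at h0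
  · simp only [Fin.val_zero, pow_zero, one_mul, sub_self, if_true] at h0
    exact (mul_eq_zero.1 h0).resolve_left h13
  · intro β _ hβ
    rw [if_neg fun e => hβ (isolated i j h hi hj hs 0 β (sub_eq_zero.1 e).symm).2, zero_mul]
  · simp
  · intro α _ hα
    refine Finset.sum_eq_zero fun β _ => ?_
    rw [if_neg fun e => hα (isolated i j h hi hj hs α β (sub_eq_zero.1 e).symm).1, zero_mul]
  · simp

/-- A triple bracket with the symmetries of `13 : 3` and the Jacobi identity vanishes. -/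
theorem triple_eq_zero (hζ : IsPrimitiveRoot ζ 13) (h13 : (13 : F) ≠ 0)
    (ψ ψ' ψ'' : ZMod 13 → ZMod 13 → ZMod 13 → F)
    (hsum : ∀ a b c, ψ a b c + ψ' a b c + ψ'' a b c = 0)
    (h12 : ∀ c i j, ¬ Rel i j → hat₂ ζ (fun a b => ψ a b c) i j = 0)
    (h3 : ∀ a i k, ¬ Rel i k → hat₂ ζ (fun b c => ψ (a + b) b c) i k = 0)
    (h' : ∀ a j k, ¬ Rel j k → hat₂ ζ (fun b c => ψ' a b c) j k = 0)
    (h'' : ∀ b k i, ¬ Rel k i → hat₂ ζ (fun c a => ψ'' a b c) k i = 0) (a b c : ZMod 13) :
    ψ a b c = 0 := by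
  refine inversion₃ hζ h13 (fun i j k => ?_) a b c
  have e1 : hat₃ ζ ψ i j k = ∑ c, ζ ^ (k * c).val * hat₂ ζ (fun a b => ψ a b c) i j := by
    unfold hat₃ hat₂
    simp only [Finset.mul_sum]
    rw [Finset.sum_comm (γ := ZMod 13) (s := Finset.univ) (t := Finset.univ)
      (f := fun c a => ∑ b, ζ ^ (k * c).val * (ζ ^ (i * a + j * b).val * ψ a b c))]
    refine Finset.sum_congr rfl fun a _ => ?_
    rw [Finset.sum_comm]
    refine Finset.sum_congr rfl fun c _ => Finset.sum_congr rfl fun b _ => ?_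
    rw [← mul_assoc, ← e_add hζ]
    congr 3
    ring
  have e3 : hat₃ ζ ψ i j k = ∑ a, ζ ^ (i * a).val * hat₂ ζ (fun b c => ψ (a + b) b c) (i + j) k := by
    unfold hat₃ hat₂
    simp only [Finset.mul_sum]
    rw [Finset.sum_comm]
    conv_rhs => rw [Finset.sum_comm]
    refine Finset.sum_congr rfl fun b _ => ?_
    refine (Fintype.sum_equiv (Equiv.addRight b) _ _ fun a => ?_).symm
    refine Finset.sum_congr rfl fun c _ => ?_
    show ζ ^ (i * a).val * (ζ ^ ((i + j) * b + k * c).val * ψ (a + b) b c) =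
      ζ ^ (i * (a + b) + j * b + k * c).val * ψ (a + b) b c
    rw [← mul_assoc, ← e_add hζ]
    congr 3
    ring
  have e' : hat₃ ζ ψ' i j k = ∑ a, ζ ^ (i * a).val * hat₂ ζ (fun b c => ψ' a b c) j k := by
    unfold hat₃ hat₂
    simp only [Finset.mul_sum]
    refine Finset.sum_congr rfl fun a _ => Finset.sum_congr rfl fun b _ => Finset.sum_congr rfl fun c _ => ?_
    rw [← mul_assoc, ← e_add hζ, add_assoc]
  have e'' : hat₃ ζ ψ'' i j k = ∑ b, ζ ^ (j * b).val * hat₂ ζ (fun c a => ψ'' a b c) k i := by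
    unfold hat₃ hat₂
    simp only [Finset.mul_sum]
    rw [Finset.sum_comm]
    refine Finset.sum_congr rfl fun b _ => ?_
    rw [Finset.sum_comm]
    refine Finset.sum_congr rfl fun c _ => Finset.sum_congr rfl fun a _ => ?_
    rw [← mul_assoc, ← e_add hζ]
    congr 3
    ring
  by_cases r1 : Rel i j
  · by_cases r2 : Rel (i + j) k
    · obtain ⟨n1, n2⟩ := not_triple i j k r1 r2
      have hz : hat₃ ζ ψ i j k + hat₃ ζ ψ' i j k + hat₃ ζ ψ'' i j k = 0 := by
        unfold hat₃
        simp only [← Finset.sum_add_distrib, ← mul_add, hsum, mul_zero, Finset.sum_const_zero]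
      rwa [e', e'', Finset.sum_eq_zero fun a _ => by rw [h' a j k n1, mul_zero],
        Finset.sum_eq_zero fun b _ => by rw [h'' b k i n2, mul_zero], add_zero, add_zero] at hz
    · rw [e3]
      exact Finset.sum_eq_zero fun a _ => by rw [h3 a (i + j) k r2, mul_zero]
  · rw [e1]
    exact Finset.sum_eq_zero fun c _ => by rw [h12 c i j r1, mul_zero]

end CfsgLib.SpecThirteenSol
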